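import Cfsg.Agent.Lib.Splitting.Nilpotent
import Mathlib

/-!
Elementary facts on a pair of automorphisms generating a symmetric group of degree three.
-/

set_option autoImplicit false

open scoped commutatorElement

namespace CfsgLib.SymThree

variable {G : Type*} [Group G] [Finite G]

theorem mul_map_mul_map_eq_one (σ : G ≃* G) (h3 : ∀ g, σ (σ (σ g)) = g)
    (hfpf : ∀ g, σ g = g → g = 1) (g : G) : g * σ g * σ (σ g) = 1 := by
  have hinj : Function.Injective (fun z : G => z⁻¹ * σ z) := by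
    intro a b hab
    have h : σ (b * a⁻¹) = b * a⁻¹ := by
      have h' : σ a = a * (b⁻¹ * σ b) := by rw [← mul_inv_cancel_left a (σ a)]; exact congrArg (a * ·) hab
      rw [map_mul, map_inv, h', mul_inv_rev, mul_inv_rev, inv_inv]
      group
    exact (mul_inv_eq_one.mp (hfpf _ h)).symm
  obtain ⟨z, hz⟩ := (Finite.injective_iff_surjective.mp hinj) g
  have hz' : z⁻¹ * σ z = g := hz
  rw [← hz', map_mul, map_inv, map_mul, map_inv, h3]
  group

theorem inv_of_fpf_involution (β : G ≃* G) (h2 : ∀ g, β (β g) = g)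
    (hfpf : ∀ g, β g = g → g = 1) (g : G) : β g = g⁻¹ :=
  congrFun (MonoidHom.FixedPointFree.coe_eq_inv_of_involutive (φ := β) hfpf h2) g

theorem isNilpotent_of_fpf_three (σ : MulAut G) (h3 : ∀ g, σ (σ (σ g)) = g)
    (hfpf : ∀ g, σ g = g → g = 1) : Group.IsNilpotent G := by
  haveI : Fact (Nat.Prime 3) := ⟨Nat.prime_three⟩
  haveI : Finite (MulAut G) := Finite.of_injective _ DFunLike.coe_injective
  let C := Subgroup.zpowers σ
  haveI : Finite (SemidirectProduct G C C.subtype) := Finite.of_equiv _ SemidirectProduct.equivProd.symm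
  let H : Subgroup (SemidirectProduct G C C.subtype) := (SemidirectProduct.inl : G →* (SemidirectProduct G C C.subtype)).range
  let y : (SemidirectProduct G C C.subtype) := SemidirectProduct.inr ⟨σ, Subgroup.mem_zpowers σ⟩
  have hy : y ∈ Subgroup.normalizer (H : Set (SemidirectProduct G C C.subtype)) := by
    have : H.Normal := by
      show (SemidirectProduct.inl : G →* (SemidirectProduct G C C.subtype)).range.Normal
      rw [SemidirectProduct.range_inl_eq_ker_rightHom]; infer_instance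
    rw [Subgroup.normalizer_eq_top]; exact Subgroup.mem_top y
  have hx : ∀ h ∈ H, (h * y) ^ 3 = 1 := by
    rintro _ ⟨g, rfl⟩
    refine SemidirectProduct.ext ?_ ?_
    · simp only [y, pow_three, SemidirectProduct.mul_left, SemidirectProduct.mul_right,
        SemidirectProduct.left_inl, SemidirectProduct.right_inl, SemidirectProduct.left_inr,
        SemidirectProduct.right_inr, SemidirectProduct.one_left, one_mul, map_one, mul_one,
        Subgroup.coe_subtype, map_mul, MulAut.one_apply, Subgroup.coe_one]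
      rw [← mul_assoc]
      exact mul_map_mul_map_eq_one σ h3 hfpf g
    · simp only [y, pow_three, SemidirectProduct.mul_right, SemidirectProduct.right_inl,
        SemidirectProduct.right_inr, SemidirectProduct.one_right, one_mul]
      exact Subtype.ext (DFunLike.ext _ _ fun g => h3 g)
  exact CfsgLib.Splitting.isNilpotent_congr
    (MonoidHom.ofInjective (f := (SemidirectProduct.inl : G →* (SemidirectProduct G C C.subtype))) SemidirectProduct.inl_injective).symm
    (CfsgLib.Splitting.isNilpotent_of_splitting H y hy hx)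

/-- If the fixed point sets are trivial, they are trivial in an invariant quotient. -/
theorem map_eq_one_of_fixed {H : Type*} [Group H] (f : G →* H) (α β : G ≃* G)
    (h6 : (Nat.card G).Coprime 6) (h3 : ∀ g, α (α (α g)) = g) (h2 : ∀ g, β (β g) = g)
    (hab : ∀ g, β (α g) = α (α (β g))) (hfix : ∀ g, α g = g → β g = g → g = 1)
    (hα : ∀ g, f g = 1 → f (α g) = 1) (hβ : ∀ g, f g = 1 → f (β g) = 1)
    {g : G} (hga : f (α g) = f g) (hgb : f (β g) = f g) : f g = 1 := by
  classical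
  letI := Fintype.ofFinite G
  have key : ∀ γ : G ≃* G, (∀ g, f g = 1 → f (γ g) = 1) → f (γ g) = f g →
      ∀ x, f x = f g → f (γ x) = f g := by
    intro γ hγ hg x hx
    have h1 := hγ (g⁻¹ * x) (by rw [map_mul, map_inv, hx, inv_mul_cancel])
    rw [map_mul, map_inv, map_mul, map_inv, hg, inv_mul_eq_one] at h1
    exact h1.symm
  let X := {x : G // f x = f g}
  let a : Function.End X := fun x => ⟨α x, key α hα hga x x.2⟩
  have ha : a ^ 3 ^ 1 = 1 := funext fun x => Subtype.ext (h3 x.1)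
  haveI : Fact (Nat.Prime 3) := ⟨Nat.prime_three⟩
  have hm := Equiv.Perm.card_fixedPoints_modEq ha
  have hX : Nat.card X = Nat.card f.ker := Nat.card_congr
    { toFun := fun x => ⟨g⁻¹ * x.1, by rw [MonoidHom.mem_ker, map_mul, map_inv, x.2, inv_mul_cancel]⟩
      invFun := fun k => ⟨g * k.1, by rw [map_mul, MonoidHom.mem_ker.mp k.2, mul_one]⟩
      left_inv := fun x => Subtype.ext (mul_inv_cancel_left g x.1)
      right_inv := fun k => Subtype.ext (inv_mul_cancel_left g k.1) }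
  obtain ⟨y, hy, hya⟩ : ∃ y, f y = f g ∧ α y = y := by
    by_contra hc
    push Not at hc
    have he : IsEmpty (Function.fixedPoints a) := ⟨fun x => hc x.1.1 x.1.2 (congrArg Subtype.val x.2)⟩
    rw [Fintype.card_eq_zero_iff.mpr he, Nat.modEq_zero_iff_dvd, ← Nat.card_eq_fintype_card, hX] at hm
    exact absurd (h6.coprime_dvd_left (Subgroup.card_subgroup_dvd_card f.ker)) (fun h => by
      have := Nat.dvd_gcd hm (show 3 ∣ 6 by norm_num)
      rw [h] at this; norm_num at this)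
  let C : Subgroup G := f.ker ⊓ (α.toMonoidHom).eqLocus (MonoidHom.id G)
  let Y := {x : G // f x = f g ∧ α x = x}
  have hY : Nat.card Y = Nat.card C := Nat.card_congr
    { toFun := fun x => ⟨y⁻¹ * x.1, ⟨by
        show f (y⁻¹ * x.1) = 1
        rw [map_mul, map_inv, x.2.1, hy, inv_mul_cancel], by
        show α (y⁻¹ * x.1) = y⁻¹ * x.1
        rw [map_mul, map_inv, hya, x.2.2]⟩⟩
      invFun := fun k => ⟨y * k.1, by rw [map_mul, MonoidHom.mem_ker.mp k.2.1, mul_one, hy], by
        rw [map_mul, hya]; exact congrArg (y * ·) k.2.2⟩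
      left_inv := fun x => Subtype.ext (mul_inv_cancel_left y x.1)
      right_inv := fun k => Subtype.ext (inv_mul_cancel_left y k.1) }
  let b : Function.End Y := fun x => ⟨β x.1, key β hβ hgb x.1 x.2.1, by
    have h := hab x.1
    rw [x.2.2] at h
    calc α (β x.1) = α (α (α (β x.1))) := congrArg α h
      _ = β x.1 := h3 _⟩
  have hb : b ^ 2 ^ 1 = 1 := funext fun x => Subtype.ext (h2 x.1)
  haveI : Fact (Nat.Prime 2) := ⟨Nat.prime_two⟩
  have hm2 := Equiv.Perm.card_fixedPoints_modEq hb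
  obtain ⟨z, hz⟩ : ∃ z : Y, b z = z := by
    by_contra hc
    push Not at hc
    have he : IsEmpty (Function.fixedPoints b) := ⟨fun x => hc x.1 x.2⟩
    rw [Fintype.card_eq_zero_iff.mpr he, Nat.modEq_zero_iff_dvd, ← Nat.card_eq_fintype_card, hY] at hm2
    have := Nat.dvd_gcd hm2 (show 2 ∣ 6 by norm_num)
    rw [h6.coprime_dvd_left (Subgroup.card_subgroup_dvd_card C)] at this
    norm_num at this
  rw [← z.2.1, hfix z.1 z.2.2 (congrArg Subtype.val hz), map_one]

/-- The key identity on nine commutators. -/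
theorem commutator_cube_mem_ker {H : Type*} [Group H] (σ τ : G ≃* G) (φ : G →* H)
    (hfix : ∀ g, g * σ g * σ (σ g) = 1) (hσ3 : ∀ g, σ (σ (σ g)) = g)
    (hτσ : ∀ g, τ (σ g) = σ (σ (τ g))) (hφ : ∀ g, φ (τ g) = φ g)
    {x : G} (hx : ∀ g, ⁅x, g⁆ ∈ Subgroup.center G) (y : G) : φ ⁅x, y⁆ ^ 3 = 1 := by
  have hcent : ∀ γ : G ≃* G, ∀ z ∈ Subgroup.center G, γ z ∈ Subgroup.center G := fun γ z hz =>
    Subgroup.mem_center_iff.mpr fun w => by
      obtain ⟨w', rfl⟩ := γ.surjective w
      rw [← map_mul, ← map_mul, Subgroup.mem_center_iff.mp hz w']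
  let Z2 : Set G := {u | ∀ g, ⁅u, g⁆ ∈ Subgroup.center G}
  have hZ2 : ∀ γ : G ≃* G, ∀ u ∈ Z2, γ u ∈ Z2 := fun γ u hu g => by
    obtain ⟨g', rfl⟩ := γ.surjective g
    rw [← map_commutatorElement]; exact hcent γ _ (hu g')
  have mulr : ∀ u ∈ Z2, ∀ a b : G, ⁅u, a * b⁆ = ⁅u, a⁆ * ⁅u, b⁆ := fun u hu a b => by
    have h : a * ⁅u, b⁆ * a⁻¹ = ⁅u, b⁆ := by
      rw [Subgroup.mem_center_iff.mp (hu b) a, mul_inv_cancel_right]
    calc ⁅u, a * b⁆ = ⁅u, a⁆ * (a * ⁅u, b⁆ * a⁻¹) := by simp only [commutatorElement_def]; group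
      _ = _ := by rw [h]
  have mull : ∀ u ∈ Z2, ∀ v ∈ Z2, ∀ a : G, ⁅u * v, a⁆ = ⁅u, a⁆ * ⁅v, a⁆ := fun u hu v hv a => by
    have h : u * ⁅v, a⁆ * u⁻¹ = ⁅v, a⁆ := by
      rw [Subgroup.mem_center_iff.mp (hv a) u, mul_inv_cancel_right]
    calc ⁅u * v, a⁆ = (u * ⁅v, a⁆ * u⁻¹) * ⁅u, a⁆ := by simp only [commutatorElement_def]; group
      _ = ⁅v, a⁆ * ⁅u, a⁆ := by rw [h]
      _ = _ := (Subgroup.mem_center_iff.mp (hv a) _).symm
  have hx1 := hZ2 σ x hx
  have hx2 := hZ2 σ _ hx1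
  have row : ⁅x, y⁆ * ⁅x, σ y⁆ * ⁅x, σ (σ y)⁆ = 1 := by
    rw [← mulr x hx, ← mulr x hx, hfix, commutatorElement_one_right]
  have rowS : ⁅σ x, y⁆ * ⁅σ x, σ y⁆ * ⁅σ x, σ (σ y)⁆ = 1 := by
    rw [← mulr _ hx1, ← mulr _ hx1, hfix, commutatorElement_one_right]
  have rowSS : ⁅σ (σ x), y⁆ * ⁅σ (σ x), σ y⁆ * ⁅σ (σ x), σ (σ y)⁆ = 1 := by
    rw [← mulr _ hx2, ← mulr _ hx2, hfix, commutatorElement_one_right]
  have col : ⁅x, y⁆ * ⁅σ x, y⁆ * ⁅σ (σ x), y⁆ = 1 := by
    have hm : x * σ x ∈ Z2 := fun g => by rw [mull x hx _ hx1]; exact mul_mem (hx g) (hx1 g)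
    rw [← mull x hx _ hx1, ← mull _ hm _ hx2, hfix, commutatorElement_one_left]
  have dia : ⁅x, y⁆ * ⁅σ x, σ y⁆ * ⁅σ (σ x), σ (σ y)⁆ = 1 := by
    rw [← map_commutatorElement, ← map_commutatorElement, ← map_commutatorElement]
    exact hfix _
  have anti : φ (⁅x, y⁆ * ⁅σ x, σ (σ y)⁆ * ⁅σ (σ x), σ y⁆) = 1 := by
    have e1 : φ (σ x) = φ (σ (σ (τ x))) := by rw [← hτσ, hφ]
    have e2 : φ (σ (σ x)) = φ (σ (τ x)) := by rw [← hφ (σ (σ x)), hτσ, hτσ, hσ3]
    have h1 : φ ⁅x, y⁆ = φ ⁅τ x, y⁆ := by rw [map_commutatorElement, map_commutatorElement, hφ]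
    have h2 : φ ⁅σ x, σ (σ y)⁆ = φ (σ (σ ⁅τ x, y⁆)) := by
      rw [map_commutatorElement, e1, ← map_commutatorElement, ← map_commutatorElement,
        ← map_commutatorElement]
    have h3 : φ ⁅σ (σ x), σ y⁆ = φ (σ ⁅τ x, y⁆) := by
      rw [map_commutatorElement, e2, ← map_commutatorElement, ← map_commutatorElement]
    rw [map_mul, map_mul, h1, h2, h3, ← map_mul, ← map_mul]
    have hz := hcent σ _ (hZ2 τ x hx y)
    rw [mul_assoc, Subgroup.mem_center_iff.mp hz, ← mul_assoc, hfix, map_one]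
  have m1 := congrArg φ row
  have m2 := congrArg φ rowS
  have m3 := congrArg φ rowSS
  have m4 := congrArg φ col
  have m5 := congrArg φ dia
  simp only [map_mul, map_one] at m1 m2 m3 m4 m5 anti
  let A : Subgroup H := (Subgroup.center G).map φ
  letI : CommGroup A := { (inferInstance : Group A) with
    mul_comm := by
      rintro ⟨_, a, ha, rfl⟩ ⟨_, b, hb, rfl⟩
      exact Subtype.ext (by
        show φ a * φ b = φ b * φ a
        rw [← map_mul, ← map_mul, Subgroup.mem_center_iff.mp hb a]) }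
  let M : ∀ u ∈ Z2, G → A := fun u hu w => ⟨φ ⁅u, w⁆, Subgroup.mem_map_of_mem φ (hu w)⟩
  set m00 := M x hx y
  set m01 := M x hx (σ y)
  set m02 := M x hx (σ (σ y))
  set m10 := M _ hx1 y
  set m11 := M _ hx1 (σ y)
  set m12 := M _ hx1 (σ (σ y))
  set m20 := M _ hx2 y
  set m21 := M _ hx2 (σ y)
  set m22 := M _ hx2 (σ (σ y))
  have r0 : m00 * m01 * m02 = 1 := Subtype.ext m1
  have r1 : m10 * m11 * m12 = 1 := Subtype.ext m2
  have r2 : m20 * m21 * m22 = 1 := Subtype.ext m3
  have c0 : m00 * m10 * m20 = 1 := Subtype.ext m4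
  have d0 : m00 * m11 * m22 = 1 := Subtype.ext m5
  have a0 : m00 * m12 * m21 = 1 := Subtype.ext anti
  have h : m00 ^ 3 = 1 := by
    calc m00 ^ 3 = m00 ^ 3 * ((m00 * m01 * m02) * (m10 * m11 * m12) * (m20 * m21 * m22)) := by
          rw [r0, r1, r2, mul_one, mul_one, mul_one]
      _ = (m00 * m01 * m02) * (m00 * m10 * m20) * (m00 * m11 * m22) * (m00 * m12 * m21) := by
          simp only [pow_three, mul_comm, mul_left_comm, mul_assoc]
      _ = 1 := by rw [r0, c0, d0, a0, one_mul, one_mul, one_mul]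
  exact congrArg Subtype.val h

end CfsgLib.SymThree
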