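import Cfsg.Agent.Lib.Fpf.AbelianIdem

/-!
An element of order three without fixed points on a module centralizes every solvable group of
order prime to six it normalizes, when that group has no nontrivial normal subgroup of
characteristic order (the case `r = 3` of Shult's theorem).
-/

set_option autoImplicit false
set_option linter.style.haveILetI false

open scoped commutatorElement

namespace CfsgLib.OrderThree

variable {M : Type*} [Group M]

/-- If `S` normalizes `R`, the automorphism it induces. -/
def conjRes (R : Subgroup M) (S : M) (hS : S ∈ Subgroup.normalizer (R : Set M)) : R ≃* R where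
  toFun x := ⟨S * x * S⁻¹, (Subgroup.mem_normalizer_iff.mp hS _).mp x.2⟩
  invFun x := ⟨S⁻¹ * x * S, by
    have := (Subgroup.mem_normalizer_iff.mp (inv_mem hS) _).mp x.2
    rwa [inv_inv] at this⟩
  left_inv x := Subtype.ext (by simp [mul_assoc])
  right_inv x := Subtype.ext (by simp [mul_assoc])
  map_mul' x y := Subtype.ext (by simp [mul_assoc])

@[simp] theorem coe_conjRes (R : Subgroup M) (S : M) (hS : S ∈ Subgroup.normalizer (R : Set M))
    (x : R) : ((conjRes R S hS x : R) : M) = S * x * S⁻¹ := rfl

theorem eq_one_of_pow_three {R : Subgroup M} [Finite R] (h3 : (Nat.card R).Coprime 3) {z : M}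
    (hz : z ∈ R) (h : z ^ 3 = 1) : z = 1 := by
  rw [← orderOf_eq_one_iff]
  refine Nat.eq_one_of_dvd_coprimes h3 ?_ (orderOf_dvd_of_pow_eq_one h)
  rw [← Subgroup.orderOf_mk z hz]
  exact orderOf_dvd_natCard _

/-- An element of `R` moved by `S` by a fixed amount is fixed. -/
theorem fixed_of_moved_fixed {R : Subgroup M} [Finite R] (h3 : (Nat.card R).Coprime 3) {S x : M}
    (hS : S ^ 3 = 1) (hSR : S ∈ Subgroup.normalizer (R : Set M)) (hx : x ∈ R)
    (hz : Commute S (x⁻¹ * (S * x * S⁻¹))) : S * x * S⁻¹ = x := by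
  set z := x⁻¹ * (S * x * S⁻¹) with hzdef
  have h1 : S * x * S⁻¹ = x * z := by rw [hzdef]; group
  have hzS : S * z * S⁻¹ = z := by rw [hz.eq, mul_inv_cancel_right]
  have hm : ∀ u v : M, S * (u * v) * S⁻¹ = (S * u * S⁻¹) * (S * v * S⁻¹) := fun u v => by group
  have h2 : S ^ 2 * x * (S ^ 2)⁻¹ = x * z * z := by
    rw [show S ^ 2 * x * (S ^ 2)⁻¹ = S * (S * x * S⁻¹) * S⁻¹ by rw [pow_two]; group, h1, hm, h1, hzS]
  have h3' : x = x * z * z * z := by
    have e : S ^ 3 * x * (S ^ 3)⁻¹ = x := by rw [hS]; group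
    rw [show S ^ 3 * x * (S ^ 3)⁻¹ = S * (S ^ 2 * x * (S ^ 2)⁻¹) * S⁻¹ by rw [pow_succ' S 2]; group,
      h2, hm, hm, h1, hzS] at e
    exact e.symm
  have hz3 : z ^ 3 = 1 := by
    have h4 : x * 1 = x * z ^ 3 := by
      rw [mul_one, pow_succ, pow_two]; simpa only [mul_assoc] using h3'
    exact (mul_left_cancel h4).symm
  have hzR : z ∈ R := mul_mem (inv_mem hx) ((Subgroup.mem_normalizer_iff.mp hSR _).mp hx)
  rw [h1, eq_one_of_pow_three h3 hzR hz3, mul_one]

variable {K : Type*} [Field K] {A : Type*} [Ring A] [Algebra K A]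

/-- A group on which an element without fixed points acts without fixed points is trivial. -/
theorem eq_bot_of_fpf [Nontrivial A] {R : Subgroup Aˣ} [Finite R] (hR : (Nat.card R : K) ≠ 0)
    {S : Aˣ} (hS : S ∈ Subgroup.normalizer (R : Set Aˣ)) (hsum : (1 : A) + S + (S : A) * S = 0)
    (hfpf : ∀ x ∈ R, Commute S x → x = 1) : R = ⊥ := by
  classical
  letI := Fintype.ofFinite R
  have key : ∀ T : Aˣ, T ∈ Subgroup.normalizer (R : Set Aˣ) → (∀ x ∈ R, Commute T x → x = 1) →
      ∑ r : R, ((r : Aˣ) : A) * T * (((r : Aˣ)⁻¹ : Aˣ) : A) = (∑ r : R, ((r : Aˣ) : A)) * T := by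
    intro T hT hfT
    let g : R → R := fun r => r * (conjRes R T hT r)⁻¹
    have hg : Function.Injective g := by
      intro a b hab
      have h' : (b⁻¹ * a) = conjRes R T hT (b⁻¹ * a) := by
        have hab' : a * (conjRes R T hT a)⁻¹ = b * (conjRes R T hT b)⁻¹ := hab
        have h0 : a = b * (conjRes R T hT b)⁻¹ * conjRes R T hT a := by rw [← hab', inv_mul_cancel_right]
        rw [map_mul, map_inv]
        conv_lhs => rw [h0]
        group
      have h2 : Commute T ((b⁻¹ * a : R) : Aˣ) := by
        have := congrArg (fun u : R => (u : Aˣ) * T) h'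
        simp only [coe_conjRes, inv_mul_cancel_right] at this
        exact this.symm
      exact (inv_mul_eq_one.mp (Subtype.ext (hfT _ (b⁻¹ * a : R).2 h2))).symm
    rw [Finset.sum_mul]
    refine Fintype.sum_equiv (Equiv.ofBijective g hg.bijective_of_finite) _ _ fun r => ?_
    rw [Equiv.ofBijective_apply, ← Units.val_mul, ← Units.val_mul, ← Units.val_mul]
    congr 1
    simp only [g, Subgroup.coe_mul, Subgroup.coe_inv, coe_conjRes, mul_inv_rev, inv_inv]
    group
  have h1 := key S hS hfpf
  have h2 := key (S * S) (mul_mem hS hS) (fun x hx hc => hfpf x hx (by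
    have hval : ((S * S : Aˣ) : A) = -1 - (S : A) := by
      rw [Units.val_mul]
      linear_combination (norm := noncomm_ring) hsum
    have hc' : Commute (-1 - (S : A)) (x : A) := hval ▸ hc.map (Units.coeHom A)
    have := ((Commute.one_left (x : A)).neg_left.sub_left hc')
    rw [sub_sub_cancel] at this
    exact Units.ext this))
  set Sm := ∑ r : R, ((r : Aˣ) : A) with hSm
  have hsum' : (Nat.card R : A) + Sm * S + Sm * ((S * S : Aˣ) : A) = 0 := by
    rw [← h1, ← h2, Nat.card_eq_fintype_card]
    have : (Fintype.card R : A) = ∑ r : R, ((r : Aˣ) : A) * (((r : Aˣ)⁻¹ : Aˣ) : A) := by simp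
    rw [this, ← Finset.sum_add_distrib, ← Finset.sum_add_distrib]
    refine Finset.sum_eq_zero fun r _ => ?_
    have e : ((r : Aˣ) : A) * (((r : Aˣ)⁻¹ : Aˣ) : A) + ((r : Aˣ) : A) * S * (((r : Aˣ)⁻¹ : Aˣ) : A)
        + ((r : Aˣ) : A) * ((S * S : Aˣ) : A) * (((r : Aˣ)⁻¹ : Aˣ) : A)
        = ((r : Aˣ) : A) * ((1 : A) + S + (S : A) * S) * (((r : Aˣ)⁻¹ : Aˣ) : A) := by
      rw [Units.val_mul]; noncomm_ring
    rw [e, hsum, mul_zero, zero_mul]
  have hSmeq : Sm = (Nat.card R : A) := by
    have : (Nat.card R : A) + Sm * S + Sm * ((S * S : Aˣ) : A)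
        = (Nat.card R : A) - Sm + Sm * ((1 : A) + S + (S : A) * S) := by
      rw [Units.val_mul]; noncomm_ring
    rw [this, hsum, mul_zero, add_zero, sub_eq_zero] at hsum'
    exact hsum'.symm
  rw [Subgroup.eq_bot_iff_forall]
  intro u hu
  have hu' : (u : A) * Sm = Sm := by
    rw [hSm, Finset.mul_sum]
    exact Fintype.sum_equiv (Equiv.mulLeft (⟨u, hu⟩ : R)) _ _ fun r => by simp
  have hcast : (Nat.card R : A) = algebraMap K A (Nat.card R : K) := (map_natCast _ _).symm
  rw [hSmeq, hcast] at hu'
  have := congrArg (fun t => t * algebraMap K A ((Nat.card R : K)⁻¹)) hu'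
  simp only [mul_assoc, ← map_mul, mul_inv_cancel₀ hR, map_one, mul_one] at this
  exact Units.ext this

section Class2

variable {R : Subgroup M} (hcl : ∀ a ∈ R, ∀ b ∈ R, ∀ c ∈ R, c * ⁅a, b⁆ = ⁅a, b⁆ * c)

include hcl

theorem comm_mul_right {a b c : M} (ha : a ∈ R) (hb : b ∈ R) (hc : c ∈ R) :
    ⁅a, b * c⁆ = ⁅a, b⁆ * ⁅a, c⁆ := by
  have h : b * ⁅a, c⁆ * b⁻¹ = ⁅a, c⁆ := by rw [hcl a ha c hc b hb, mul_inv_cancel_right]
  calc ⁅a, b * c⁆ = ⁅a, b⁆ * (b * ⁅a, c⁆ * b⁻¹) := by simp only [commutatorElement_def]; group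
    _ = _ := by rw [h]

theorem comm_mul_left {a b c : M} (ha : a ∈ R) (hb : b ∈ R) (hc : c ∈ R) :
    ⁅a * b, c⁆ = ⁅a, c⁆ * ⁅b, c⁆ := by
  have h : a * ⁅b, c⁆ * a⁻¹ = ⁅b, c⁆ := by rw [hcl b hb c hc a ha, mul_inv_cancel_right]
  calc ⁅a * b, c⁆ = (a * ⁅b, c⁆ * a⁻¹) * ⁅a, c⁆ := by simp only [commutatorElement_def]; group
    _ = ⁅b, c⁆ * ⁅a, c⁆ := by rw [h]
    _ = _ := hcl a ha c hc _ (by
      rw [commutatorElement_def]
      exact mul_mem (mul_mem (mul_mem hb hc) (inv_mem hb)) (inv_mem hc))

end Class2

/-- The elements commuting with a given element of `R`, as a subgroup of `R`. -/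
def fixIn (R : Subgroup M) (S : M) : Subgroup M := R ⊓ Subgroup.centralizer {S}

theorem mem_fixIn {R : Subgroup M} {S x : M} : x ∈ fixIn R S ↔ x ∈ R ∧ Commute S x := by
  rw [fixIn, Subgroup.mem_inf, Subgroup.mem_centralizer_singleton_iff]
  exact and_congr_right fun _ => ⟨fun h => h.symm, fun h => h.symm⟩

section Count

variable [IsAlgClosed K] {W : Type*} [AddCommGroup W] [Module K W] [FiniteDimensional K W]

/-- The fixed points of a quadratic element on endomorphisms have at least half the dimension. -/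
theorem finrank_fix_ge (h3 : (3 : K) ≠ 0) (S : (Module.End K W)ˣ)
    (hsum : (1 : Module.End K W) + S + (S : Module.End K W) * S = 0) (F : Submodule K (Module.End K W))
    (hF : ∀ X : Module.End K W, Commute (S : Module.End K W) X → X ∈ F) :
    Module.finrank K W ^ 2 ≤ 2 * Module.finrank K F := by
  obtain ⟨ω, hω⟩ : ∃ ω : K, ω ^ 2 + ω + 1 = 0 := by
    obtain ⟨w, hw⟩ := IsAlgClosed.exists_root (Polynomial.X ^ 2 + Polynomial.X + 1 : Polynomial K) (by
      rw [Polynomial.degree_eq_natDegree (by
        intro h; simpa [Polynomial.coeff_X, Polynomial.coeff_one] using congrArg (fun q => Polynomial.coeff q 2) h)]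
      norm_cast
      have : (Polynomial.X ^ 2 + Polynomial.X + 1 : Polynomial K).natDegree = 2 := by compute_degree!
      omega)
    exact ⟨w, by simpa [Polynomial.IsRoot] using hw⟩
  have hne : ω - (-1 - ω) ≠ 0 := by
    intro h
    exact h3 (by linear_combination 4 * hω - (2 * ω + 1) * h)
  set c := (ω - (-1 - ω))⁻¹ with hc
  set P : Module.End K W := c • ((S : Module.End K W) - (-1 - ω) • 1) with hP
  have hS2 : (S : Module.End K W) * S = -1 - (S : Module.End K W) := by
    linear_combination (norm := noncomm_ring) hsum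
  have hSP : (S : Module.End K W) * P = ω • P := by
    rw [hP, mul_smul_comm, smul_comm ω c]
    congr 1
    rw [mul_sub, mul_smul_comm, mul_one, hS2, smul_sub, smul_smul]
    have : ω * (-1 - ω) = 1 := by linear_combination -hω
    rw [this, one_smul, sub_smul, neg_smul, one_smul]
    abel
  have hSQ : (S : Module.End K W) * (1 - P) = (-1 - ω) • (1 - P) := by
    have h1 : (ω - (-1 - ω)) • P = (S : Module.End K W) - (-1 - ω) • 1 := by
      rw [hP, smul_smul, hc, mul_inv_cancel₀ hne, one_smul]
    rw [mul_sub, hSP, mul_one, smul_sub]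
    rw [sub_smul] at h1
    linear_combination (norm := abel) -h1
  have hPS : Commute (S : Module.End K W) P :=
    ((Commute.refl (S : Module.End K W)).sub_right ((Commute.one_right _).smul_right _)).smul_right c
  set U₁ := LinearMap.range P
  set U₂ := LinearMap.ker P
  have hPU : ∀ u ∈ U₁, (S : Module.End K W) u = ω • u := by
    rintro _ ⟨w, rfl⟩
    exact LinearMap.congr_fun hSP w
  have hQU : ∀ u ∈ U₂, (S : Module.End K W) u = (-1 - ω) • u := by
    intro u hu
    have := LinearMap.congr_fun hSQ u
    simpa [LinearMap.mem_ker.mp hu] using this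
  have hQ : ∀ w : W, w - P w ∈ U₂ := by
    intro w
    have h' : (ω - (-1 - ω)) • P (w - P w) = 0 := by
      have h1 : ∀ v, (ω - (-1 - ω)) • P v = (S : Module.End K W) v - (-1 - ω) • v := fun v => by
        rw [hP, LinearMap.smul_apply, smul_smul, hc, mul_inv_cancel₀ hne, one_smul]
        simp
      rw [h1]
      have h2 := LinearMap.congr_fun hSQ w
      simp only [Module.End.mul_apply, LinearMap.sub_apply, Module.End.one_apply,
        LinearMap.smul_apply] at h2
      rw [h2, sub_self]
    exact LinearMap.mem_ker.mpr ((smul_eq_zero.mp h').resolve_left hne)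
  have hPid : ∀ u ∈ U₁, P u = u := by
    intro u hu
    rw [hP, LinearMap.smul_apply, LinearMap.sub_apply, hPU u hu]
    simp only [LinearMap.smul_apply, Module.End.one_apply]
    rw [← sub_smul, smul_smul, hc, inv_mul_cancel₀ hne, one_smul]
  let Qm : W →ₗ[K] U₂ := (1 - P : Module.End K W).codRestrict U₂ hQ
  let Φ : (Module.End K U₁ × Module.End K U₂) →ₗ[K] F :=
    { toFun := fun ab => ⟨U₁.subtype ∘ₗ ab.1 ∘ₗ P.rangeRestrict + U₂.subtype ∘ₗ ab.2 ∘ₗ Qm, hF _ (by
        apply LinearMap.ext
        intro w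
        simp only [Module.End.mul_apply, LinearMap.add_apply, map_add, LinearMap.comp_apply,
          Submodule.coe_subtype]
        have e1 : (S : Module.End K W) (ab.1 (P.rangeRestrict w) : W)
            = (ab.1 (P.rangeRestrict ((S : Module.End K W) w)) : W) := by
          have h' : P.rangeRestrict ((S : Module.End K W) w) = ω • P.rangeRestrict w := by
            apply Subtype.ext
            show P ((S : Module.End K W) w) = ω • P w
            rw [← Module.End.mul_apply, ← hPS.eq, hSP]; rfl
          rw [h', map_smul, hPU _ (ab.1 _).2]; rfl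
        have e2 : (S : Module.End K W) (ab.2 (Qm w) : W)
            = (ab.2 (Qm ((S : Module.End K W) w)) : W) := by
          have h' : Qm ((S : Module.End K W) w) = (-1 - ω) • Qm w := by
            apply Subtype.ext
            show (1 - P : Module.End K W) ((S : Module.End K W) w) = (-1 - ω) • (1 - P : Module.End K W) w
            rw [← Module.End.mul_apply, ← ((Commute.one_right _).sub_right hPS).eq, hSQ]; rfl
          rw [h', map_smul, hQU _ (ab.2 _).2]; rfl
        rw [e1, e2])⟩
      map_add' := fun x y => by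
        apply Subtype.ext; apply LinearMap.ext; intro w
        simp only [Prod.fst_add, Prod.snd_add, Submodule.coe_add, LinearMap.add_apply,
          LinearMap.comp_apply, map_add]
        abel
      map_smul' := fun r x => by
        apply Subtype.ext; apply LinearMap.ext; intro w
        simp [smul_add] }
  have hΦ : Function.Injective Φ := by
    rw [injective_iff_map_eq_zero]
    intro ab h
    have h' : ∀ w, (ab.1 (P.rangeRestrict w) : W) + (ab.2 (Qm w) : W) = 0 := fun w =>
      LinearMap.congr_fun (congrArg Subtype.val h) w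
    refine Prod.ext (LinearMap.ext fun u => Subtype.ext ?_) (LinearMap.ext fun u => Subtype.ext ?_)
    · have := h' u.1
      rw [show P.rangeRestrict u.1 = u from Subtype.ext (hPid _ u.2),
        show Qm u.1 = 0 from Subtype.ext (by
          show (1 - P : Module.End K W) u.1 = 0
          rw [LinearMap.sub_apply, Module.End.one_apply, hPid _ u.2, sub_self])] at this
      simpa using this
    · have := h' u.1
      rw [show P.rangeRestrict u.1 = 0 from Subtype.ext (LinearMap.mem_ker.mp u.2),
        show Qm u.1 = u from Subtype.ext (by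
          show (1 - P : Module.End K W) u.1 = u.1
          rw [LinearMap.sub_apply, Module.End.one_apply, LinearMap.mem_ker.mp u.2, sub_zero])] at this
      simpa using this
  have h1 := LinearMap.finrank_le_finrank_of_injective hΦ
  rw [Module.finrank_prod, Module.finrank_linearMap, Module.finrank_linearMap] at h1
  have h2 : Module.finrank K U₁ + Module.finrank K U₂ = Module.finrank K W :=
    LinearMap.finrank_range_add_finrank_ker P
  rw [← h2]
  zify at h1 ⊢
  nlinarith [sq_nonneg ((Module.finrank K U₁ : ℤ) - Module.finrank K U₂)]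

end Count

end CfsgLib.OrderThree
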