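import Mathlib

/-!
The idempotents attached to the characters of a finite abelian group acting through an algebra over
an algebraically closed field in which the order of the group is invertible.
-/

set_option autoImplicit false

open Finset

namespace CfsgLib.AbelianIdem

variable {N : Type*} [CommGroup N] [Finite N] {K : Type*} [Field K] [IsAlgClosed K]
  {A : Type*} [Ring A] [Algebra K A]

theorem neZero_exponent (hN : (Nat.card N : K) ≠ 0) : NeZero (Monoid.exponent N : K) :=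
  ⟨fun h => hN (by
    obtain ⟨d, hd⟩ := Group.exponent_dvd_nat_card (G := N)
    rw [hd, Nat.cast_mul, h, zero_mul])⟩

theorem hasEnoughRoots (hN : (Nat.card N : K) ≠ 0) :
    HasEnoughRootsOfUnity K (Monoid.exponent N) :=
  have := neZero_exponent hN
  inferInstance

theorem exists_ne (hN : (Nat.card N : K) ≠ 0) {n : N} (hn : n ≠ 1) : ∃ χ : N →* Kˣ, χ n ≠ 1 :=
  have := hasEnoughRoots (K := K) hN
  CommGroup.exists_apply_ne_one_of_hasEnoughRootsOfUnity N K hn

theorem card_hom (hN : (Nat.card N : K) ≠ 0) : Nat.card (N →* Kˣ) = Nat.card N :=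
  have := hasEnoughRoots (K := K) hN
  CommGroup.card_monoidHom_of_hasEnoughRootsOfUnity N K

/-- The idempotent of the character `χ`. -/
noncomputable def idem (ρ : N →* A) (χ : N →* Kˣ) : A :=
  letI := Fintype.ofFinite N
  (Nat.card N : K)⁻¹ • ∑ n : N, ((χ n)⁻¹ : Kˣ).1 • ρ n

variable (ρ : N →* A)

theorem map_mul_idem (χ : N →* Kˣ) (m : N) : ρ m * idem ρ χ = (χ m).1 • idem ρ χ := by
  letI := Fintype.ofFinite N
  simp only [idem, mul_smul_comm, Finset.mul_sum]
  rw [smul_comm ((χ m).1) ((Nat.card N : K)⁻¹)]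
  congr 1
  rw [Finset.smul_sum]
  refine Fintype.sum_equiv (Equiv.mulLeft m) _ _ fun n => ?_
  rw [Equiv.coe_mulLeft, smul_smul, ← Units.val_mul, map_mul χ, mul_inv, ← mul_assoc,
    mul_inv_cancel, one_mul, map_mul]

theorem idem_mul_map (χ : N →* Kˣ) (m : N) : idem ρ χ * ρ m = (χ m).1 • idem ρ χ := by
  letI := Fintype.ofFinite N
  rw [← map_mul_idem]
  simp only [idem, smul_mul_assoc, mul_smul_comm, Finset.sum_mul, Finset.mul_sum, ← map_mul,
    mul_comm]

theorem idem_mul_idem (hN : (Nat.card N : K) ≠ 0) (χ ψ : N →* Kˣ) [Decidable (χ = ψ)] :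
    idem ρ χ * idem ρ ψ = if χ = ψ then idem ρ χ else 0 := by
  letI := Fintype.ofFinite N
  have key : idem ρ χ * idem ρ ψ
      = ((Nat.card N : K)⁻¹ * ∑ n : N, ((χ n)⁻¹ * ψ n : Kˣ).1) • idem ρ ψ := by
    conv_lhs => rw [idem]
    simp only [smul_mul_assoc, Finset.sum_mul, map_mul_idem, smul_smul, ← Finset.sum_smul,
      Units.val_mul]
  rw [key]
  split_ifs with h
  · subst h
    simp only [inv_mul_cancel, Units.val_one, Finset.sum_const, Finset.card_univ, nsmul_eq_mul, mul_one,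
      ← Nat.card_eq_fintype_card, inv_mul_cancel₀ hN, one_smul]
  · have hsum : ∑ n : N, ((χ n)⁻¹ * ψ n : Kˣ).1 = 0 := by
      obtain ⟨m, hm⟩ := DFunLike.ne_iff.mp h
      have hne : ((χ m)⁻¹ * ψ m : Kˣ).1 ≠ 1 := fun e => hm (inv_mul_eq_one.mp (Units.ext e))
      refine eq_zero_of_mul_eq_self_left hne ?_
      rw [Finset.mul_sum]
      refine Fintype.sum_equiv (Equiv.mulLeft m) _ _ fun n => ?_
      rw [Equiv.coe_mulLeft, map_mul, map_mul, mul_inv, ← Units.val_mul]
      congr 1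
      rw [mul_mul_mul_comm]
    rw [hsum, mul_zero, zero_smul]

theorem sum_idem [Fintype (N →* Kˣ)] (hN : (Nat.card N : K) ≠ 0) :
    ∑ χ : N →* Kˣ, idem ρ χ = 1 := by
  letI := Fintype.ofFinite N
  have key : ∀ n : N, n ≠ 1 → ∑ χ : N →* Kˣ, ((χ n)⁻¹ : Kˣ).1 = 0 := by
    intro n hn
    obtain ⟨ψ, hψ⟩ := exists_ne hN hn
    have hne : ((ψ n)⁻¹ : Kˣ).1 ≠ 1 := fun e => hψ (inv_eq_one.mp (Units.ext e))
    refine eq_zero_of_mul_eq_self_left hne ?_
    rw [Finset.mul_sum]
    refine Fintype.sum_equiv (Equiv.mulLeft ψ) _ _ fun χ => ?_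
    rw [Equiv.coe_mulLeft, MonoidHom.mul_apply, mul_inv, Units.val_mul]
  simp only [idem, ← Finset.smul_sum]
  rw [Finset.sum_comm, Finset.sum_eq_single 1]
  · simp only [map_one, inv_one, Units.val_one, one_smul, Finset.sum_const, Finset.card_univ,
      ← Nat.card_eq_fintype_card, card_hom hN]
    rw [← Nat.cast_smul_eq_nsmul K, smul_smul, inv_mul_cancel₀ hN, one_smul]
  · intro n _ hn
    rw [← Finset.sum_smul, key n hn, zero_smul]
  · simp

/-- Conjugation permutes the idempotents. -/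
theorem conj_idem (u : Aˣ) (σ : N ≃* N) (h : ∀ n, (u : A) * ρ n = ρ (σ n) * u) (χ : N →* Kˣ) :
    (u : A) * idem ρ χ = idem ρ (χ.comp σ.symm.toMonoidHom) * u := by
  letI := Fintype.ofFinite N
  simp only [idem, mul_smul_comm, smul_mul_assoc, Finset.mul_sum, Finset.sum_mul]
  congr 1
  refine Fintype.sum_equiv σ.toEquiv _ _ fun n => ?_
  simp [h]

theorem commute_idem (a : A) (h : ∀ n, Commute a (ρ n)) (χ : N →* Kˣ) : Commute a (idem ρ χ) := by
  letI := Fintype.ofFinite N
  simp only [idem]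
  exact (Commute.sum_right _ _ _ fun n _ => (h n).smul_right _).smul_right _

/-- An element fixing every component is `1`. -/
theorem eq_one_of_forall {x : A} [Fintype (N →* Kˣ)] (hN : (Nat.card N : K) ≠ 0)
    (h : ∀ χ : N →* Kˣ, idem ρ χ ≠ 0 → x * idem ρ χ = idem ρ χ) : x = 1 := by
  calc x = x * ∑ χ : N →* Kˣ, idem ρ χ := by rw [sum_idem ρ hN, mul_one]
    _ = ∑ χ : N →* Kˣ, idem ρ χ := by
      rw [Finset.mul_sum]
      refine Finset.sum_congr rfl fun χ _ => ?_
      by_cases hz : idem ρ χ = 0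
      · rw [hz, mul_zero]
      · exact h χ hz
    _ = 1 := sum_idem ρ hN

end CfsgLib.AbelianIdem
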