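import Mathlib

/-!
Fixed-point-free automorphisms of order dividing four (Gorenstein–Herstein).
-/

namespace CfsgLib.FpfFour

open scoped commutatorElement

set_option linter.style.haveILetI false

universe u

variable {G : Type*} [Group G]

/-- A fixed-point-free automorphism of order dividing four. -/
structure Fpf (σ : MulAut G) : Prop where
  pow_four : σ ^ 4 = 1
  eq_one : ∀ g : G, σ g = g → g = 1

namespace Fpf

variable {σ : MulAut G} (hσ : Fpf σ)
include hσ

theorem apply_four (g : G) : σ (σ (σ (σ g))) = g := by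
  have h := congrArg (fun f : MulAut G => f g) hσ.pow_four
  simpa [pow_succ, pow_zero, MulAut.mul_apply] using h

theorem exists_eq [Finite G] (x : G) : ∃ g : G, g⁻¹ * σ g = x := by
  have hinj : Function.Injective (fun g : G => g⁻¹ * σ g) := by
    intro a b h
    have h1 : σ (b * a⁻¹) = b * a⁻¹ := by
      have h' : a⁻¹ * σ a = b⁻¹ * σ b := h
      have h2 : σ b = b * (a⁻¹ * σ a) := by rw [h', mul_inv_cancel_left]
      rw [map_mul, map_inv, h2]
      group
    exact (mul_inv_eq_one.mp (hσ.eq_one _ h1)).symm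
  exact Finite.surjective_of_injective hinj x

theorem invariant_eq [Finite G] {H : Subgroup G} (hH : ∀ h ∈ H, σ h ∈ H) : H.map σ.toMonoidHom = H :=
  Subgroup.eq_of_le_of_card_ge (by rintro _ ⟨h, hh, rfl⟩; exact hH h hh)
    (Subgroup.card_map_of_injective σ.injective).ge

/-- The restriction to an invariant subgroup. -/
theorem exists_restrict [Finite G] {H : Subgroup G} (hH : ∀ h ∈ H, σ h ∈ H) :
    ∃ τ : MulAut H, Fpf τ ∧ ∀ h : H, ((τ h : H) : G) = σ h := by
  let f : H →* H :=
    { toFun := fun h => ⟨σ h, hH h h.2⟩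
      map_one' := Subtype.ext (map_one σ)
      map_mul' := fun a b => Subtype.ext (map_mul σ _ _) }
  have hinj : Function.Injective f := fun a b h => Subtype.ext (σ.injective (congrArg Subtype.val h))
  let τ : MulAut H := MulEquiv.ofBijective f ⟨hinj, Finite.surjective_of_injective hinj⟩
  refine ⟨τ, ⟨?_, fun h hh => Subtype.ext (hσ.eq_one _ (congrArg Subtype.val hh))⟩, fun h => rfl⟩
  ext h
  show ((τ ^ 4) h : G) = h
  simp only [pow_succ, pow_zero, one_mul, MulAut.mul_apply]
  exact hσ.apply_four h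

/-- The fixed points of the square are inverted. -/
theorem apply_eq_inv [Finite G] {c : G} (hc : σ (σ c) = c) : σ c = c⁻¹ := by
  let C : Subgroup G :=
    { carrier := {x | σ (σ x) = x}
      one_mem' := by simp
      mul_mem' := fun {a b} (ha : σ (σ a) = a) (hb : σ (σ b) = b) => by
        show σ (σ (a * b)) = a * b
        rw [map_mul, map_mul, ha, hb]
      inv_mem' := fun {a} (ha : σ (σ a) = a) => by
        show σ (σ a⁻¹) = a⁻¹
        rw [map_inv, map_inv, ha] }
  obtain ⟨τ, hτ, hτσ⟩ := hσ.exists_restrict (H := C) fun h (hh : σ (σ h) = h) => by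
    show σ (σ (σ h)) = σ h
    rw [hh]
  obtain ⟨g, hg⟩ := hτ.exists_eq ⟨c, hc⟩
  have hg' : (g : G)⁻¹ * σ g = c := by
    have := congrArg Subtype.val hg
    simpa [hτσ] using this
  rw [← hg', map_mul, map_inv, (g.2 : σ (σ g) = g)]
  group

/-- Elements fixed by the square commute. -/
theorem commute_of_fixed [Finite G] {a b : G} (ha : σ (σ a) = a) (hb : σ (σ b) = b) :
    Commute a b := by
  have hab : σ (σ (a * b)) = a * b := by rw [map_mul, map_mul, ha, hb]
  have h := hσ.apply_eq_inv hab
  rw [map_mul, hσ.apply_eq_inv ha, hσ.apply_eq_inv hb] at h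
  have := congrArg Inv.inv h
  simpa [Commute, SemiconjBy] using this.symm

/-- A normal subgroup on which the square is trivial is central. -/
theorem le_center [Finite G] {H : Subgroup G} [H.Normal] (hH : ∀ h ∈ H, σ (σ h) = h) :
    H ≤ Subgroup.center G := by
  intro t ht
  rw [Subgroup.mem_center_iff]
  intro x
  obtain ⟨g, rfl⟩ := hσ.exists_eq x
  have h1 : σ (g * t * g⁻¹) = (g * t * g⁻¹)⁻¹ :=
    hσ.apply_eq_inv (hH _ (Subgroup.Normal.conj_mem inferInstance t ht g))
  rw [map_mul, map_mul, map_inv, hσ.apply_eq_inv (hH t ht)] at h1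
  have h2 : σ g * t * (σ g)⁻¹ = g * t * g⁻¹ := by
    have := congrArg Inv.inv h1
    simpa [mul_assoc] using this
  calc g⁻¹ * σ g * t = g⁻¹ * (σ g * t * (σ g)⁻¹) * σ g := by group
    _ = g⁻¹ * (g * t * g⁻¹) * σ g := by rw [h2]
    _ = t * (g⁻¹ * σ g) := by group

theorem odd_card [Finite G] : ¬ 2 ∣ Nat.card G := by
  intro h2
  classical
  haveI := Fintype.ofFinite G
  haveI : Fact (Nat.Prime 2) := ⟨Nat.prime_two⟩
  let ι : Equiv.Perm G := Equiv.inv G
  have hι : ι ^ 2 ^ 1 = 1 := by ext x; simp [ι, sq]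
  have hev : 2 ∣ Fintype.card {x : G // x * x = 1} := by
    have h := Equiv.Perm.card_compl_support_modEq hι
    have e : ι.supportᶜ.card = Fintype.card {x : G // x * x = 1} := by
      rw [Fintype.card_subtype]
      congr 1
      ext x
      simp [ι, mul_eq_one_iff_eq_inv, eq_comm]
    rw [e, ← Nat.card_eq_fintype_card (α := G)] at h
    exact Nat.modEq_zero_iff_dvd.mp (h.trans (Nat.modEq_zero_iff_dvd.mpr h2))
  let s : Equiv.Perm {x : G // x * x = 1} :=
    σ.toEquiv.subtypeEquiv fun x => by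
      show _ ↔ σ x * σ x = 1
      rw [← map_mul, map_eq_one_iff _ σ.injective]
  have hs : s ^ 2 ^ 2 = 1 := by
    ext x
    show ((s ^ 4) x : G) = x
    simp only [pow_succ, pow_zero, one_mul, Equiv.Perm.mul_apply]
    exact hσ.apply_four x
  obtain ⟨b, hb, hb1⟩ := Equiv.Perm.exists_fixed_point_of_prime' hev hs
    (a := ⟨1, one_mul 1⟩) (Subtype.ext (map_one σ))
  exact hb1 (Subtype.ext (hσ.eq_one b (congrArg Subtype.val hb)))

theorem eq_one_of_sq [Finite G] {y : G} (hy : y * y = 1) : y = 1 := by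
  by_contra h
  have h1 : orderOf y = 2 := orderOf_eq_prime (by rw [sq, hy]) h
  exact hσ.odd_card (h1 ▸ orderOf_dvd_natCard y)

/-- The induced automorphism of the quotient by an invariant normal subgroup. -/
theorem exists_quotient [Finite G] {N : Subgroup G} [N.Normal] (hN : ∀ h ∈ N, σ h ∈ N) :
    ∃ τ : MulAut (G ⧸ N), Fpf τ ∧ ∀ g : G, τ g = ((σ g : G) : G ⧸ N) := by
  let τ : MulAut (G ⧸ N) := QuotientGroup.congr N N σ (hσ.invariant_eq hN)
  have hτ : ∀ g : G, τ g = ((σ g : G) : G ⧸ N) := fun g => rfl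
  refine ⟨τ, ⟨?_, fun q hq => ?_⟩, hτ⟩
  · ext q
    obtain ⟨g, rfl⟩ := QuotientGroup.mk_surjective q
    simp only [pow_succ, pow_zero, one_mul, MulAut.mul_apply, MulAut.one_apply, hτ]
    rw [hσ.apply_four]
  · obtain ⟨g, rfl⟩ := QuotientGroup.mk_surjective q
    rw [hτ, eq_comm, QuotientGroup.eq] at hq
    obtain ⟨ν, hν, hνσ⟩ := hσ.exists_restrict hN
    obtain ⟨k, hk⟩ := hν.exists_eq ⟨_, hq⟩
    have hk' : (k : G)⁻¹ * σ k = g⁻¹ * σ g := by
      have := congrArg Subtype.val hk
      simpa [hνσ] using this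
    have h1 : σ ((k : G) * g⁻¹) = k * g⁻¹ := by
      have h2 : σ k = k * (g⁻¹ * σ g) := by rw [← hk', mul_inv_cancel_left]
      rw [map_mul, map_inv, h2]
      group
    have h3 := hσ.eq_one _ h1
    rw [mul_inv_eq_one] at h3
    rw [QuotientGroup.eq_one_iff, ← h3]
    exact k.2

end Fpf

/-- A faithful module of exponent `p` compatible with fixed-point-free automorphisms. -/
structure Compat {X : Type*} [Group X] (V : Type*) [CommGroup V] (p : ℕ) (σX : MulAut X)
    (σV : MulAut V) (ρ : X →* MulAut V) : Prop where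
  fpfX : Fpf σX
  fpfV : Fpf σV
  injective : Function.Injective ρ
  exp : ∀ v : V, v ^ p = 1
  comm : ∀ x v, σV (ρ x v) = ρ (σX x) (σV v)

namespace Compat

variable {X : Type*} [Group X] [Finite X] {V : Type*} [CommGroup V] {p : ℕ} [Fact p.Prime]
  {σX : MulAut X} {σV : MulAut V} {ρ : X →* MulAut V} (h : Compat V p σX σV ρ)
include h

theorem restrict {H : Subgroup X} (hH : ∀ a ∈ H, σX a ∈ H) :
    ∃ τ : MulAut H, Compat V p τ σV (ρ.comp H.subtype) ∧ ∀ a : H, ((τ a : H) : X) = σX a := by
  obtain ⟨τ, hτ, hτσ⟩ := h.fpfX.exists_restrict hH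
  refine ⟨τ, ⟨hτ, h.fpfV, h.injective.comp Subtype.val_injective, h.exp, fun a v => ?_⟩, hτσ⟩
  show σV (ρ (a : X) v) = ρ ((τ a : H) : X) (σV v)
  rw [hτσ]
  exact h.comm _ _

/-- On an abelian group of order prime to `p` the square of the automorphism is trivial. -/
theorem square_fixed_of_comm (hcomm : ∀ a b : X, a * b = b * a) (hp : ¬ p ∣ Nat.card X) (c : X) :
    σX (σX c) = c := by
  by_contra hne
  have hX : ∀ a : X, ∀ v, σV (σV (ρ a v)) = ρ (σX (σX a)) (σV (σV v)) := fun a v => by
    rw [h.comm, h.comm]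
  let M : X →* Module.End ℤ (Additive V) :=
    { toFun := fun a => ((ρ a).toMonoidHom.toAdditive).toIntLinearMap
      map_one' := by ext v; simp
      map_mul' := fun a b => by ext v; simp }
  let S : Module.End ℤ (Additive V) := (σV.toMonoidHom.toAdditive).toIntLinearMap
  have hM : ∀ (a : X) (v : Additive V), M a v = Additive.ofMul (ρ a v.toMul) := fun _ _ => rfl
  have hS : ∀ v : Additive V, S v = Additive.ofMul (σV v.toMul) := fun _ => rfl
  have E : ∀ a : X, M a + M (σX a) * S + M (σX (σX a)) * S ^ 2 + M (σX (σX (σX a))) * S ^ 3 = 0 := by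
    intro a
    ext v
    simp only [pow_succ, pow_zero, one_mul, LinearMap.add_apply, Module.End.mul_apply, hM, hS,
      toMul_ofMul, LinearMap.zero_apply]
    simp only [← h.comm]
    simp only [toMul_add, toMul_ofMul, toMul_zero]
    apply h.fpfV.eq_one
    simp only [map_mul, h.fpfV.apply_four]
    ac_rfl
  have E1 : ∀ b a : X, (M (σX b) - M b) * M (σX a) * S + (M (σX (σX b)) - M b) * M (σX (σX a)) * S ^ 2 +
      (M (σX (σX (σX b))) - M b) * M (σX (σX (σX a))) * S ^ 3 = 0 := by
    intro b a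
    have h1 := E (b * a)
    simp only [map_mul] at h1
    have h2 := congrArg (M b * ·) (E a)
    simp only [mul_zero] at h2
    calc _ = (M b * M a + M (σX b) * M (σX a) * S + M (σX (σX b)) * M (σX (σX a)) * S ^ 2 +
          M (σX (σX (σX b))) * M (σX (σX (σX a))) * S ^ 3) -
          (M b * (M a + M (σX a) * S + M (σX (σX a)) * S ^ 2 + M (σX (σX (σX a))) * S ^ 3)) := by
          noncomm_ring
      _ = 0 := by rw [h1, h2, sub_zero]
  have hMc : ∀ a b : X, Commute (M a) (M b) := fun a b => by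
    show M a * M b = M b * M a
    rw [← map_mul, ← map_mul, hcomm]
  have E2 : ∀ b d a : X, (M (σX (σX b)) - M b) * (M (σX (σX d)) - M (σX d)) * M (σX (σX a)) * S ^ 2 +
      (M (σX (σX (σX b))) - M b) * (M (σX (σX (σX d))) - M (σX d)) * M (σX (σX (σX a))) * S ^ 3 = 0 := by
    intro b d a
    have h1 := E1 b (d * a)
    simp only [map_mul] at h1
    have h2 := congrArg (M (σX d) * ·) (E1 b a)
    simp only [mul_zero] at h2
    have c1 : M (σX d) * (M (σX b) - M b) = (M (σX b) - M b) * M (σX d) :=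
      ((hMc _ _).sub_right (hMc _ _)).eq
    have c2 : M (σX d) * (M (σX (σX b)) - M b) = (M (σX (σX b)) - M b) * M (σX d) :=
      ((hMc _ _).sub_right (hMc _ _)).eq
    have c3 : M (σX d) * (M (σX (σX (σX b))) - M b) = (M (σX (σX (σX b))) - M b) * M (σX d) :=
      ((hMc _ _).sub_right (hMc _ _)).eq
    simp only [mul_add, ← mul_assoc, c1, c2, c3] at h2
    simp only [← mul_assoc] at h1
    rw [← sub_eq_zero.mpr (h1.trans h2.symm)]
    noncomm_ring
  have E3 : ∀ b d e : X, (M (σX (σX (σX b))) - M b) * (M (σX (σX (σX d))) - M (σX d)) *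
      (M (σX (σX (σX e))) - M (σX (σX e))) = 0 := by
    intro b d e
    have h1 := E2 b d e
    have h2 := congrArg (M (σX (σX e)) * ·) (E2 b d 1)
    simp only [mul_zero, map_one, mul_one] at h2
    have c2 : M (σX (σX e)) * ((M (σX (σX b)) - M b) * (M (σX (σX d)) - M (σX d))) =
        (M (σX (σX b)) - M b) * (M (σX (σX d)) - M (σX d)) * M (σX (σX e)) :=
      (((hMc _ _).sub_right (hMc _ _)).mul_right ((hMc _ _).sub_right (hMc _ _))).eq
    have c3 : M (σX (σX e)) * ((M (σX (σX (σX b))) - M b) * (M (σX (σX (σX d))) - M (σX d))) =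
        (M (σX (σX (σX b))) - M b) * (M (σX (σX (σX d))) - M (σX d)) * M (σX (σX e)) :=
      (((hMc _ _).sub_right (hMc _ _)).mul_right ((hMc _ _).sub_right (hMc _ _))).eq
    rw [mul_add, ← mul_assoc, c2, ← mul_assoc (M (σX (σX e))), c3] at h2
    have h3 : (M (σX (σX (σX b))) - M b) * (M (σX (σX (σX d))) - M (σX d)) *
        (M (σX (σX (σX e))) - M (σX (σX e))) * S ^ 3 = 0 := by
      rw [← sub_eq_zero.mpr (h1.trans h2.symm)]
      noncomm_ring
    have hS4 : S ^ 3 * S = 1 := by
      rw [← pow_succ]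
      ext v
      simp only [pow_succ, pow_zero, one_mul, Module.End.mul_apply, hS, toMul_ofMul,
        h.fpfV.apply_four]
      rfl
    have h4 := congrArg (· * S) h3
    simpa [mul_assoc, hS4] using h4
  -- choose the three differences equal
  set z := σX (c⁻¹ * σX (σX c)) with hz
  have hz1 : z ≠ 1 := by
    intro h1
    rw [hz, map_eq_one_iff _ σX.injective, inv_mul_eq_one] at h1
    exact hne h1.symm
  obtain ⟨g, hg⟩ := h.fpfX.exists_eq z⁻¹
  obtain ⟨e₀, he₀⟩ := h.fpfX.exists_eq (σX (σX z))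
  have hb : σX (σX (σX (σX g))) = g := h.fpfX.apply_four g
  -- `b = σX g`, so that `b⁻¹ σ³ b = z`
  have hzb : (σX g)⁻¹ * σX (σX (σX (σX g))) = z := by
    rw [hb, ← inv_inv z, ← hg, mul_inv_rev, inv_inv]
  have hze : (σX (σX e₀))⁻¹ * σX (σX (σX e₀)) = z := by
    have := congrArg (fun x => σX (σX x)) he₀
    simpa [h.fpfX.apply_four] using this
  have hzd : (σX c)⁻¹ * σX (σX (σX c)) = z := by rw [hz, map_mul, map_inv]
  have key : (M z - 1) ^ 3 = 0 := by
    have h3 := E3 (σX g) c e₀
    have hdiff : ∀ a b : X, a⁻¹ * b = z → M b - M a = M a * (M z - 1) := by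
      intro a b hab
      rw [mul_sub, mul_one, ← map_mul, ← hab, mul_inv_cancel_left]
    rw [hdiff _ _ hzb, hdiff _ _ hzd, hdiff _ _ hze] at h3
    have cA : ∀ a, Commute (M z - 1) (M a) := fun a => (hMc z a).sub_left (Commute.one_left _)
    have h4 : M (σX g * σX c * σX (σX e₀)) * (M z - 1) ^ 3 = 0 := by
      rw [← h3, map_mul, map_mul, pow_succ, pow_succ, pow_one]
      simp only [mul_assoc]
      congr 1
      rw [← mul_assoc (M z - 1) (M (σX c)), (cA _).eq, mul_assoc]
      congr 1
      rw [← mul_assoc (M z - 1) (M (σX (σX e₀))), (cA _).eq, mul_assoc,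
        ← mul_assoc (M z - 1) (M (σX (σX e₀))), (cA _).eq, mul_assoc]
    have h5 := congrArg (M (σX g * σX c * σX (σX e₀))⁻¹ * ·) h4
    simpa [← mul_assoc, ← map_mul] using h5
  have hVne : Nontrivial (Additive V) := by
    by_contra hsub
    rw [not_nontrivial_iff_subsingleton] at hsub
    exact hz1 (h.injective (MulEquiv.ext fun v => Additive.ofMul.injective (Subsingleton.elim _ _)))
  haveI : CharP (Module.End ℤ (Additive V)) p := by
    have hp0 : (p : Module.End ℤ (Additive V)) = 0 := by
      ext v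
      rw [Module.End.natCast_apply, LinearMap.zero_apply]
      apply Additive.toMul.injective
      rw [toMul_nsmul, toMul_zero]
      exact h.exp _
    obtain ⟨q, hq⟩ := CharP.exists (Module.End ℤ (Additive V))
    have hdvd := (CharP.cast_eq_zero_iff _ q p).mp hp0
    rcases (Nat.dvd_prime Fact.out).mp hdvd with rfl | rfl
    · exact absurd rfl (CharP.char_ne_one (Module.End ℤ (Additive V)) 1)
    · exact hq
  have hzp : z ^ p ^ 2 = 1 := by
    apply h.injective
    have h1 : (M z - 1) ^ p ^ 2 = 0 := by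
      refine pow_eq_zero_of_le ?_ key
      have := (Fact.out : p.Prime).two_le
      nlinarith
    rw [sub_pow_char_pow_of_commute p 2 (Commute.one_right _), one_pow, sub_eq_zero, ← map_pow] at h1
    refine MulEquiv.ext fun v => ?_
    have h2 := LinearMap.congr_fun h1 (Additive.ofMul v)
    rw [map_one]
    exact Additive.ofMul.injective h2
  have h6 : orderOf z ∣ 1 := by
    have h7 := orderOf_dvd_of_pow_eq_one hzp
    have h8 := orderOf_dvd_natCard z
    have := Nat.dvd_gcd h7 h8
    rwa [Nat.Coprime.gcd_eq_one (((Fact.out : p.Prime).coprime_iff_not_dvd.mpr hp).pow_left 2)] at this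
  exact hz1 (orderOf_eq_one_iff.mp (Nat.dvd_one.mp h6))

/-- A nilpotent group of order prime to `p` in this situation has the square acting trivially. -/
theorem square_fixed_of_nilpotent [Group.IsNilpotent X] (hp : ¬ p ∣ Nat.card X) (c : X) :
    σX (σX c) = c := by
  -- every commutative invariant subgroup is fixed by the square
  have hab : ∀ A : Subgroup X, (∀ a ∈ A, σX a ∈ A) → (∀ a ∈ A, ∀ b ∈ A, a * b = b * a) →
      ∀ a ∈ A, σX (σX a) = a := by
    intro A hA hcomm a ha
    obtain ⟨τ, hτ, hτσ⟩ := h.restrict hA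
    have := hτ.square_fixed_of_comm (fun a b => Subtype.ext (hcomm a a.2 b b.2))
      (fun hd => hp (hd.trans A.card_subgroup_dvd_card)) ⟨a, ha⟩
    have := congrArg Subtype.val this
    rwa [hτσ, hτσ] at this
  have hZinv : ∀ a ∈ Subgroup.center X, σX a ∈ Subgroup.center X := by
    intro a ha
    rw [Subgroup.mem_center_iff]
    intro y
    obtain ⟨y, rfl⟩ := σX.surjective y
    rw [← map_mul, ← map_mul, Subgroup.mem_center_iff.mp ha y]
  let T : Subgroup X := (Subgroup.center (X ⧸ Subgroup.center X)).comap (QuotientGroup.mk' _)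
  have hT : ∀ x, x ∈ T ↔ ∀ y, ⁅x, y⁆ ∈ Subgroup.center X := by
    intro x
    show (x : X ⧸ Subgroup.center X) ∈ Subgroup.center _ ↔ _
    rw [Subgroup.mem_center_iff]
    constructor
    · intro hx y
      rw [← QuotientGroup.eq_one_iff, commutatorElement_def]
      have := hx (y : X ⧸ Subgroup.center X)
      simp only [QuotientGroup.mk_mul, QuotientGroup.mk_inv]
      rw [mul_inv_eq_one, mul_inv_eq_iff_eq_mul, this]
    · intro hx q
      obtain ⟨y, rfl⟩ := QuotientGroup.mk_surjective q
      have := (QuotientGroup.eq_one_iff _).mpr (hx y)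
      simp only [commutatorElement_def, QuotientGroup.mk_mul, QuotientGroup.mk_inv] at this
      rw [mul_inv_eq_one, mul_inv_eq_iff_eq_mul] at this
      exact this.symm
  have hTinv : ∀ a ∈ T, σX a ∈ T := by
    intro a ha
    rw [hT]
    intro y
    obtain ⟨y, rfl⟩ := σX.surjective y
    rw [← map_commutatorElement]
    exact hZinv _ ((hT a).mp ha y)
  have hTfix : ∀ x ∈ T, σX (σX x) = x := by
    intro x hx
    set y := x⁻¹ * σX (σX x) with hy
    have hyT : y ∈ T := T.mul_mem (T.inv_mem hx) (hTinv _ (hTinv _ hx))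
    have hyinv : σX (σX y) = y⁻¹ := by
      rw [hy, map_mul, map_mul, map_inv, map_inv, h.fpfX.apply_four, mul_inv_rev, inv_inv]
    have hcz : ⁅y, σX y⁆ ∈ Subgroup.center X := (hT y).mp hyT _
    have hc1 : σX ⁅y, σX y⁆ = ⁅y, σX y⁆ := by
      rw [map_commutatorElement, hyinv]
      have hc' := Subgroup.mem_center_iff.mp hcz y
      rw [commutatorElement_def] at hc' ⊢
      rw [commutatorElement_def]
      calc σX y * y⁻¹ * (σX y)⁻¹ * y⁻¹⁻¹ =
          y⁻¹ * (y * (σX y * y⁻¹ * (σX y)⁻¹)) * y := by group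
        _ = y⁻¹ * (y * σX y * y⁻¹ * (σX y)⁻¹ * y) := by group
        _ = y⁻¹ * (y * (y * σX y * y⁻¹ * (σX y)⁻¹)) := by rw [hc']
        _ = _ := by group
    have hcomm : Commute y (σX y) := by
      have := h.fpfX.eq_one _ hc1
      rwa [commutatorElement_eq_one_iff_mul_comm] at this
    set A := Subgroup.closure ({y, σX y} : Set X) with hA
    have hAinv : ∀ a ∈ A, σX a ∈ A := by
      intro a ha
      have : a ∈ A.comap σX.toMonoidHom := by
        refine (Subgroup.closure_le _).mpr ?_ ha
        rintro _ (rfl | rfl)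
        · exact Subgroup.subset_closure (Set.mem_insert_of_mem _ (Set.mem_singleton _))
        · show σX (σX y) ∈ A
          rw [hyinv]
          exact A.inv_mem (Subgroup.subset_closure (Set.mem_insert _ _))
      exact this
    haveI := Subgroup.isMulCommutative_closure (k := ({y, σX y} : Set X)) (by
      rintro a (rfl | rfl) b (rfl | rfl)
      · rfl
      · exact hcomm.eq
      · exact hcomm.eq.symm
      · rfl)
    have hy2 := hab A hAinv (fun a ha b hb => setLike_mul_comm ha hb) y
      (Subgroup.subset_closure (Set.mem_insert _ _))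
    rw [hyinv] at hy2
    have hy1 : y = 1 := h.fpfX.eq_one_of_sq (mul_eq_one_iff_eq_inv.mpr hy2.symm)
    rw [hy, inv_mul_eq_one] at hy1
    exact hy1.symm
  have hTle : T ≤ Subgroup.center X := h.fpfX.le_center hTfix
  have htop : Subgroup.center X = ⊤ := by
    by_contra hne
    haveI : Nontrivial (X ⧸ Subgroup.center X) := QuotientGroup.nontrivial_iff.mpr hne
    obtain ⟨⟨q, hq⟩, hq1⟩ := Subgroup.ne_bot_iff_exists_ne_one.mp
      (show Subgroup.center (X ⧸ Subgroup.center X) ≠ ⊥ from
        Group.IsNilpotent.center_ne_bot _)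
    obtain ⟨x, rfl⟩ := QuotientGroup.mk_surjective q
    exact hq1 (Subtype.ext ((QuotientGroup.eq_one_iff x).mpr (hTle hq)))
  refine hab ⊤ (fun _ _ => Subgroup.mem_top _) (fun a _ b _ => ?_) c (Subgroup.mem_top c)
  exact (Subgroup.mem_center_iff.mp (htop ▸ Subgroup.mem_top a) b).symm

end Compat

end CfsgLib.FpfFour
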