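import Mathlib
import Cfsg.Agent.Lib.Fpf.OrderFour

/-!
Gorenstein–Herstein: the derived subgroup of a soluble group with a fixed-point-free automorphism of
order dividing four is nilpotent.
-/

namespace CfsgLib.FpfFour

open scoped commutatorElement

set_option linter.style.haveILetI false

universe u

/-- A nilpotent normal invariant subgroup of a group acting irreducibly has order prime to `p`. -/
theorem Compat.not_dvd_card {X : Type*} [Group X] [Finite X] {V : Type*} [CommGroup V] [Finite V]
    [Nontrivial V] {p : ℕ} [Fact p.Prime] {σX : MulAut X} {σV : MulAut V} {ρ : X →* MulAut V}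
    (h : Compat V p σX σV ρ)
    (hirr : ∀ W : Subgroup V, (∀ w ∈ W, σV w ∈ W) → (∀ x, ∀ w ∈ W, ρ x w ∈ W) → W = ⊥ ∨ W = ⊤)
    (N : Subgroup X) [N.Normal] [Group.IsNilpotent N] (hN : ∀ a ∈ N, σX a ∈ N) :
    ¬ p ∣ Nat.card N := by
  intro hdvd
  let P₀ : Sylow p N := default
  haveI : (P₀ : Subgroup N).Normal := Sylow.normal_of_normalizerCondition
    Group.normalizerCondition_of_isNilpotent P₀
  haveI : Subsingleton (Sylow p N) := by
    haveI := Sylow.unique_of_normal P₀ inferInstance
    infer_instance
  haveI : (P₀ : Subgroup N).Characteristic := Sylow.characteristic_of_subsingleton P₀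
  set P : Subgroup X := (P₀ : Subgroup N).map N.subtype with hP
  haveI hPn : P.Normal := ConjAct.normal_of_characteristic_of_normal
  have hPinv : ∀ a ∈ P, σX a ∈ P := by
    rintro _ ⟨a, ha, rfl⟩
    obtain ⟨τ, -, hτ⟩ := h.fpfX.exists_restrict hN
    refine ⟨τ a, ?_, hτ a⟩
    have := Subgroup.characteristic_iff_map_eq.mp ‹(P₀ : Subgroup N).Characteristic› τ
    exact this ▸ Subgroup.mem_map_of_mem _ ha
  letI : MulAction P V := MulAction.compHom V (ρ.comp P.subtype)
  let W : Subgroup V :=
    { carrier := {w | ∀ x ∈ P, ρ x w = w}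
      one_mem' := fun x _ => map_one _
      mul_mem' := fun {a b} ha hb x hx => by rw [map_mul, ha x hx, hb x hx]
      inv_mem' := fun {a} ha x hx => by rw [map_inv, ha x hx] }
  have hW : W = ⊥ ∨ W = ⊤ := by
    refine hirr W (fun w hw x hx => ?_) (fun y w hw x hx => ?_)
    · obtain ⟨x', hx', rfl⟩ : x ∈ P.map σX.toMonoidHom := (h.fpfX.invariant_eq hPinv).symm ▸ hx
      show ρ (σX x') (σV w) = σV w
      rw [← h.comm, hw x' hx']
    · have h1 : ρ (y⁻¹ * x * y) w = w := hw _ (by simpa using hPn.conj_mem x hx y⁻¹)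
      calc ρ x (ρ y w) = ρ y (ρ (y⁻¹ * x * y) w) := by
            show (ρ x * ρ y) w = (ρ y * ρ (y⁻¹ * x * y)) w
            rw [← map_mul, ← map_mul, show x * y = y * (y⁻¹ * x * y) by group]
        _ = ρ y w := by rw [h1]
  have hVp : p ∣ Nat.card V := by
    obtain ⟨v, hv⟩ := exists_ne (1 : V)
    exact (orderOf_eq_prime (h.exp v) hv) ▸ orderOf_dvd_natCard v
  have hPp : IsPGroup p P := P₀.2.map _
  obtain ⟨v, hv, hv1⟩ := hPp.exists_fixed_point_of_prime_dvd_card_of_fixed_point V hVp
    (a := 1) (fun x => map_one (ρ x))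
  have hWtop : W = ⊤ := hW.resolve_left fun h0 => hv1 (by
    have hvW : v ∈ W := fun x hx => hv ⟨x, hx⟩
    rw [h0] at hvW
    exact (Subgroup.mem_bot.mp hvW).symm)
  have hPbot : P = ⊥ := by
    rw [eq_bot_iff]
    intro x hx
    refine Subgroup.mem_bot.mpr (h.injective (MulEquiv.ext fun w => ?_))
    have : w ∈ W := hWtop ▸ Subgroup.mem_top w
    rw [this x hx, map_one]
    rfl
  have hP₀ : (P₀ : Subgroup N) = ⊥ := (Subgroup.map_eq_bot_iff_of_injective _ N.subtype_injective).mp hPbot
  have := P₀.dvd_card_of_dvd_card hdvd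
  rw [hP₀, Subgroup.card_bot] at this
  exact (Fact.out : p.Prime).not_dvd_one this

/-- In the irreducible situation the acting group is commutative. -/
theorem Compat.commute {X : Type*} [Group X] [Finite X] {V : Type*} [CommGroup V] [Finite V]
    [Nontrivial V] {p : ℕ} [Fact p.Prime] {σX : MulAut X} {σV : MulAut V} {ρ : X →* MulAut V}
    (h : Compat V p σX σV ρ)
    (hirr : ∀ W : Subgroup V, (∀ w ∈ W, σV w ∈ W) → (∀ x, ∀ w ∈ W, ρ x w ∈ W) → W = ⊥ ∨ W = ⊤)
    (hnil : Group.IsNilpotent (commutator X)) (a b : X) : a * b = b * a := by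
  have hinv : ∀ x ∈ commutator X, σX x ∈ commutator X := fun x hx =>
    Subgroup.characteristic_iff_map_eq.mp (inferInstance : (commutator X).Characteristic) σX ▸ Subgroup.mem_map_of_mem _ hx
  have hp := h.not_dvd_card hirr (commutator X) hinv
  obtain ⟨τ, hτ, hτσ⟩ := h.restrict hinv
  have hfix : ∀ x ∈ commutator X, σX (σX x) = x := fun x hx => by
    have := congrArg Subtype.val (hτ.square_fixed_of_nilpotent hp ⟨x, hx⟩)
    rwa [hτσ, hτσ] at this
  have hcent : commutator X ≤ Subgroup.center X := h.fpfX.le_center hfix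
  haveI : Group.IsNilpotent X := by
    apply Group.of_quotient_center_nilpotent
    letI : CommGroup (X ⧸ Subgroup.center X) :=
      { (inferInstance : Group (X ⧸ Subgroup.center X)) with
        mul_comm := fun q r => by
          obtain ⟨q, rfl⟩ := QuotientGroup.mk_surjective q
          obtain ⟨r, rfl⟩ := QuotientGroup.mk_surjective r
          rw [← QuotientGroup.mk_mul, ← QuotientGroup.mk_mul, QuotientGroup.eq]
          apply hcent
          rw [show (q * r)⁻¹ * (r * q) = ⁅r⁻¹, q⁻¹⁆ by rw [commutatorElement_def]; group]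
          exact Subgroup.commutator_mem_commutator (Subgroup.mem_top _) (Subgroup.mem_top _) }
    infer_instance
  haveI : Group.IsNilpotent (⊤ : Subgroup X) := Group.nilpotent_of_mulEquiv Subgroup.topEquiv.symm
  have hpX : ¬ p ∣ Nat.card X := by
    have := h.not_dvd_card hirr ⊤ (fun x _ => Subgroup.mem_top _)
    rwa [Subgroup.card_top] at this
  exact h.fpfX.commute_of_fixed (h.square_fixed_of_nilpotent hpX a) (h.square_fixed_of_nilpotent hpX b)

/-- A central extension of a nilpotent derived subgroup. -/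
theorem isNilpotent_commutator_of_quotient {G : Type*} [Group G] (V : Subgroup G) [V.Normal]
    (hV : commutator G ≤ Subgroup.centralizer (V : Set G))
    (hQ : Group.IsNilpotent (commutator (G ⧸ V))) : Group.IsNilpotent (commutator G) := by
  have hmap : (commutator G).map (QuotientGroup.mk' V) = commutator (G ⧸ V) := by
    rw [commutator_def, Subgroup.map_commutator,
      Subgroup.map_top_of_surjective _ (QuotientGroup.mk'_surjective V), ← commutator_def]
  let f : commutator G →* commutator (G ⧸ V) :=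
    ((QuotientGroup.mk' V).comp (commutator G).subtype).codRestrict _ fun x =>
      hmap ▸ Subgroup.mem_map_of_mem _ x.2
  haveI := hQ
  refine Subgroup.isNilpotent_of_ker_le_center f (fun x hx => ?_)
  rw [Subgroup.mem_center_iff]
  intro y
  have hxV : (x : G) ∈ V := (QuotientGroup.eq_one_iff (x : G)).mp (congrArg Subtype.val hx)
  exact Subtype.ext (Subgroup.mem_centralizer_iff.mp (hV y.2) x hxV).symm

/-- The derived subgroup of a soluble group with a fixed-point-free automorphism of order dividing
four is nilpotent. -/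
theorem isNilpotent_commutator : ∀ (n : ℕ) (G : Type u) [Group G] [Finite G], Nat.card G = n →
    Group.IsSolvable G → ∀ σ : MulAut G, Fpf σ → Group.IsNilpotent (commutator G) := by
  intro n
  induction n using Nat.strong_induction_on with
  | _ n ih =>
    intro G _ _ hn hsolv σ hσ
    rcases subsingleton_or_nontrivial G with hs | hnt
    · haveI : Subsingleton (commutator G) := inferInstance
      infer_instance
    -- a minimal invariant normal subgroup
    let T : Set (Subgroup G) := {H | H ≠ ⊥ ∧ H.Normal ∧ ∀ h ∈ H, σ h ∈ H}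
    have hTne : T.Nonempty := ⟨⊤, top_ne_bot, inferInstance, fun _ _ => Subgroup.mem_top _⟩
    obtain ⟨V, ⟨hVne, hVn, hVinv⟩, hVmin⟩ := T.toFinite.exists_minimal hTne
    haveI := hVn
    haveI : Nontrivial V := (Subgroup.nontrivial_iff_ne_bot V).mpr hVne
    have hmin : ∀ W : Subgroup G, W ≤ V → W.Normal → (∀ h ∈ W, σ h ∈ W) → W = ⊥ ∨ W = V := by
      intro W hWV hWn hWinv
      by_cases hW : W = ⊥
      · exact Or.inl hW
      · exact Or.inr (le_antisymm hWV (hVmin ⟨hW, hWn, hWinv⟩ hWV))
    -- it is commutative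
    have hcomm : ∀ a b : V, a * b = b * a := by
      have hWinv : ∀ h ∈ ⁅V, V⁆, σ h ∈ ⁅V, V⁆ := fun h hh => by
        have h1 := Subgroup.mem_map_of_mem σ.toMonoidHom hh
        rw [Subgroup.map_commutator, hσ.invariant_eq hVinv] at h1
        exact h1
      rcases hmin ⁅V, V⁆ (Subgroup.commutator_le_self V) inferInstance hWinv with h | h
      · intro a b
        have := Subgroup.commutator_mem_commutator a.2 b.2
        rw [h, Subgroup.mem_bot, commutatorElement_eq_one_iff_mul_comm] at this
        exact Subtype.ext this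
      · haveI := hsolv
        exact absurd h (ne_of_lt (Group.IsSolvable.commutator_lt_of_ne_bot hVne))
    letI : CommGroup V := { (inferInstance : Group V) with mul_comm := hcomm }
    -- and of prime exponent
    obtain ⟨p, hp, hpV⟩ := Nat.exists_prime_and_dvd (Finite.one_lt_card (α := V)).ne'
    haveI := Fact.mk hp
    have hexp : ∀ v : V, v ^ p = 1 := by
      let W : Subgroup G :=
        { carrier := {g | g ∈ V ∧ g ^ p = 1}
          one_mem' := ⟨V.one_mem, one_pow p⟩
          mul_mem' := fun {a b} ha hb => ⟨V.mul_mem ha.1 hb.1, by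
            have hab : Commute a b := congrArg Subtype.val (hcomm ⟨a, ha.1⟩ ⟨b, hb.1⟩)
            rw [hab.mul_pow, ha.2, hb.2, one_mul]⟩
          inv_mem' := fun {a} ha => ⟨V.inv_mem ha.1, by rw [inv_pow, ha.2, inv_one]⟩ }
      have hWn : W.Normal := ⟨fun a ha g => ⟨hVn.conj_mem a ha.1 g, by rw [conj_pow, ha.2]; group⟩⟩
      rcases hmin W (fun a ha => ha.1) hWn (fun a ha => ⟨hVinv a ha.1, by rw [← map_pow, ha.2, map_one]⟩)
        with h | h
      · obtain ⟨v, hv⟩ := exists_prime_orderOf_dvd_card' p hpV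
        have hvW : (v : G) ∈ W := ⟨v.2, by rw [← Subgroup.coe_pow, ← hv, pow_orderOf_eq_one]; rfl⟩
        rw [h, Subgroup.mem_bot, OneMemClass.coe_eq_one] at hvW
        rw [hvW, orderOf_one] at hv
        exact absurd hv.symm hp.ne_one
      · intro v
        have hvW : (v : G) ∈ W := (SetLike.ext_iff.mp h _).mpr v.2
        exact Subtype.ext (by simpa using hvW.2)
    -- the induced action
    obtain ⟨σV, hσV, hσVv⟩ := hσ.exists_restrict hVinv
    let ρ₀ : G →* MulAut V := MulAut.conjNormal
    set K := ρ₀.ker with hK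
    have hcommρ : ∀ g v, σV (ρ₀ g v) = ρ₀ (σ g) (σV v) := fun g v => Subtype.ext (by
      simp [ρ₀, hσVv, MulAut.conjNormal_apply])
    have hKinv : ∀ g ∈ K, σ g ∈ K := by
      intro g hg
      refine MulEquiv.ext fun v => ?_
      obtain ⟨v, rfl⟩ := σV.surjective v
      rw [← hcommρ, (MonoidHom.mem_ker.mp hg)]
      rfl
    obtain ⟨σX, hσX, hσXg⟩ := hσ.exists_quotient hKinv
    have hC : Compat V p σX σV (QuotientGroup.kerLift ρ₀) := by
      refine ⟨hσX, hσV, QuotientGroup.kerLift_injective ρ₀, hexp, fun x v => ?_⟩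
      obtain ⟨g, rfl⟩ := QuotientGroup.mk_surjective x
      rw [hσXg]
      exact hcommρ g v
    have hirr : ∀ W : Subgroup V, (∀ w ∈ W, σV w ∈ W) →
        (∀ x, ∀ w ∈ W, QuotientGroup.kerLift ρ₀ x w ∈ W) → W = ⊥ ∨ W = ⊤ := by
      intro W hW1 hW2
      have hWn : (W.map V.subtype).Normal := by
        refine ⟨?_⟩
        rintro _ ⟨w, hw, rfl⟩ g
        exact ⟨_, hW2 (g : G ⧸ K) w hw, MulAut.conjNormal_apply g w⟩
      rcases hmin _ (Subgroup.map_subtype_le W) hWn
        (by rintro _ ⟨w, hw, rfl⟩; exact ⟨σV w, hW1 w hw, hσVv w⟩) with h | h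
      · exact Or.inl ((Subgroup.map_eq_bot_iff_of_injective W V.subtype_injective).mp h)
      · refine Or.inr (Subgroup.map_injective V.subtype_injective ?_)
        rw [h, ← MonoidHom.range_eq_map, Subgroup.range_subtype]
    have hlt : ∀ (H : Subgroup G) [H.Normal], H ≠ ⊥ → Nat.card (G ⧸ H) < n := by
      intro H _ hH
      have e := Subgroup.card_eq_card_quotient_mul_card_subgroup H
      have h1 : 1 < Nat.card H := (Subgroup.one_lt_card_iff_ne_bot H).mpr hH
      have h2 : 0 < Nat.card (G ⧸ H) := Nat.card_pos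
      rw [← hn]
      nlinarith
    have hKne : K ≠ ⊥ := by
      intro hbot
      obtain ⟨v, hv⟩ := exists_ne (1 : V)
      have : (v : G) ∈ K := MulEquiv.ext fun w => Subtype.ext (by
        refine (MulAut.conjNormal_apply (v : G) w).trans ?_
        have h1 : (v : G) * w = w * v := congrArg Subtype.val (hcomm v w)
        rw [h1]
        exact mul_inv_cancel_right _ _)
      rw [hbot, Subgroup.mem_bot, OneMemClass.coe_eq_one] at this
      exact hv this
    have hX : Group.IsNilpotent (commutator (G ⧸ K)) :=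
      ih _ (hlt K hKne) _ rfl
        (Group.isSolvable_of_surjective (f := QuotientGroup.mk' K) (QuotientGroup.mk'_surjective K)) σX hσX
    have hab := hC.commute hirr hX
    have hle : commutator G ≤ Subgroup.centralizer (V : Set G) := by
      rw [commutator_def, Subgroup.commutator_le]
      intro a _ b _
      have h1 : ⁅a, b⁆ ∈ K := by
        rw [← QuotientGroup.eq_one_iff]
        show QuotientGroup.mk' K ⁅a, b⁆ = 1
        rw [map_commutatorElement, commutatorElement_eq_one_iff_mul_comm]
        exact hab _ _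
      refine Subgroup.mem_centralizer_iff.mpr fun v hv => ?_
      have h2 := congrArg Subtype.val (MulEquiv.congr_fun (MonoidHom.mem_ker.mp h1) ⟨v, hv⟩)
      have h3 : ⁅a, b⁆ * v * ⁅a, b⁆⁻¹ = v :=
        (MulAut.conjNormal_apply ⁅a, b⁆ ⟨v, hv⟩).symm.trans h2
      exact (mul_inv_eq_iff_eq_mul.mp h3).symm
    obtain ⟨σQ, hσQ, -⟩ := hσ.exists_quotient hVinv
    exact isNilpotent_commutator_of_quotient V hle (ih _ (hlt V hVne) _ rfl
      (Group.isSolvable_of_surjective (f := QuotientGroup.mk' V) (QuotientGroup.mk'_surjective V)) σQ hσQ)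

end CfsgLib.FpfFour
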