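import Cfsg.Agent.Lib.Fpf.OrderThree
import Cfsg.Agent.Lib.Coprime.Action
import Cfsg.Agent.Lib.PSolvable.Core
import Cfsg.Agent.Lib.Transfer.Hall

/-!
Main statements on an element `S` with `1 + S + S ^ 2 = 0` normalizing a solvable linear group of
order prime to six.
-/

set_option autoImplicit false
set_option linter.style.haveILetI false

open scoped commutatorElement

namespace CfsgLib.OrderThree

open CfsgLib.AbelianIdem

variable {K : Type*} [Field K] [IsAlgClosed K] {W : Type*} [AddCommGroup W] [Module K W]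

section Restrict

/-- The units commuting with `e`. -/
def commUnits (e : Module.End K W) : Subgroup (Module.End K W)ˣ where
  carrier := {g | Commute (g : Module.End K W) e}
  one_mem' := Commute.one_left e
  mul_mem' := fun {a b} ha hb => by
    show Commute ((a * b : (Module.End K W)ˣ) : Module.End K W) e
    rw [Units.val_mul]; exact Commute.mul_left ha hb
  inv_mem' := fun {a} ha => Commute.units_inv_left ha

theorem apply_mem_range {e : Module.End K W} {g : (Module.End K W)ˣ} (hg : g ∈ commUnits e) :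
    ∀ w ∈ LinearMap.range e, (g : Module.End K W) w ∈ LinearMap.range e := by
  rintro _ ⟨w, rfl⟩
  refine ⟨(g : Module.End K W) w, ?_⟩
  rw [← Module.End.mul_apply, ← (hg : Commute (g : Module.End K W) e).eq, Module.End.mul_apply]

/-- Restriction to the range of `e`. -/
noncomputable def resHom (e : Module.End K W) :
    commUnits e →* Module.End K (LinearMap.range e) where
  toFun g := ((g : (Module.End K W)ˣ) : Module.End K W).restrict (apply_mem_range g.2)
  map_one' := LinearMap.ext fun w => Subtype.ext rfl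
  map_mul' _ _ := LinearMap.ext fun w => Subtype.ext rfl

theorem coe_resHom (e : Module.End K W) (g : commUnits e) (w : LinearMap.range e) :
    ((resHom e g w : LinearMap.range e) : W) = ((g : (Module.End K W)ˣ) : Module.End K W) w := rfl

end Restrict

/-- An eigenvector of a character is fixed by its idempotent. -/
theorem idem_apply_eq {N : Type*} [CommGroup N] [Finite N] {V : Type*} [AddCommGroup V] [Module K V]
    (hN : (Nat.card N : K) ≠ 0) (ρ : N →* Module.End K V) (χ : N →* Kˣ) (v : V)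
    (h : ∀ n, ρ n v = (χ n).1 • v) : idem ρ χ v = v := by
  letI := Fintype.ofFinite N
  simp only [idem, LinearMap.smul_apply, LinearMap.sum_apply, h, smul_smul, Units.inv_mul, one_smul]
  rw [Finset.sum_const, Finset.card_univ, ← Nat.card_eq_fintype_card, ← Nat.cast_smul_eq_nsmul K,
    smul_smul, inv_mul_cancel₀ hN, one_smul]

variable [FiniteDimensional K W]

theorem commute_of_commutative_moved {R : Subgroup (Module.End K W)ˣ} [Finite R]
    {S : (Module.End K W)ˣ} (hSR : S ∈ Subgroup.normalizer (R : Set (Module.End K W)ˣ))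
    (hcomm : ∀ a ∈ R, ∀ b ∈ R, a * b = b * a)
    (hgen : R ≤ Subgroup.closure {z | ∃ x ∈ R, z = x⁻¹ * (S * x * S⁻¹)}) :
    ∀ x ∈ R, Commute S x → x = 1 := by
  let ψ : R →* R :=
    { toFun := fun x => x⁻¹ * conjRes R S hSR x
      map_one' := by simp
      map_mul' := fun a b => by
        rw [map_mul, mul_inv_rev]
        apply Subtype.ext
        simp only [Subgroup.coe_mul, Subgroup.coe_inv, coe_conjRes]
        have hb := inv_mem b.2
        have ha := inv_mem a.2
        have h1 := (Subgroup.mem_normalizer_iff.mp hSR (a : (Module.End K W)ˣ)).mp a.2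
        rw [hcomm _ hb _ ha, mul_assoc (a : (Module.End K W)ˣ)⁻¹, mul_assoc (a : (Module.End K W)ˣ)⁻¹]
        congr 1
        rw [← mul_assoc, hcomm _ hb _ h1, mul_assoc] }
  have hsurj : Function.Surjective ψ := by
    intro y
    have : y.1 ∈ ψ.range.map R.subtype := by
      refine (Subgroup.closure_le _).mpr ?_ (hgen y.2)
      rintro z ⟨x, hx, rfl⟩
      exact ⟨ψ ⟨x, hx⟩, ⟨_, rfl⟩, rfl⟩
    obtain ⟨_, ⟨x, rfl⟩, hx⟩ := this
    exact ⟨x, Subtype.ext hx⟩
  have hinj := Finite.injective_iff_surjective.mpr hsurj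
  intro x hx hc
  have : ψ ⟨x, hx⟩ = ψ 1 := by
    rw [map_one]
    apply Subtype.ext
    show x⁻¹ * (S * x * S⁻¹) = 1
    rw [hc.eq, mul_inv_cancel_right, inv_mul_cancel]
  exact congrArg Subtype.val (hinj this)

theorem class_two_aux (h3 : (3 : K) ≠ 0) (S : (Module.End K W)ˣ)
    (hsum : (1 : Module.End K W) + S + (S : Module.End K W) * S = 0) (m : ℕ) :
    ∀ R : Subgroup (Module.End K W)ˣ, Nat.card R = m → Finite R → (Nat.card R).Coprime 6 →
      (Nat.card R : K) ≠ 0 → S ∈ Subgroup.normalizer (R : Set (Module.End K W)ˣ) →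
      (∀ a ∈ R, ∀ b ∈ R, ∀ c ∈ R, c * ⁅a, b⁆ = ⁅a, b⁆ * c) → ∀ x ∈ R, Commute S x := by
  induction m using Nat.strong_induction_on with
  | h m ih =>
  intro R hm hfin h6 hRK hSR hcl
  classical
  haveI := hfin
  rcases subsingleton_or_nontrivial (Module.End K W) with hs | hnt
  · exact fun x _ => Units.ext (Subsingleton.elim _ _)
  have hS3 : S ^ 3 = 1 := Units.ext (by
    rw [Units.val_pow_eq_pow_val, Units.val_one]
    linear_combination (norm := noncomm_ring) ((S : Module.End K W) - 1) * hsum)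
  have h23 : (Nat.card R).Coprime 3 := h6.coprime_dvd_right (by norm_num)
  have hRi : ∀ x ∈ R, S * x * S⁻¹ ∈ R := fun x hx => (Subgroup.mem_normalizer_iff.mp hSR x).mp hx
  have sub : ∀ D : Subgroup (Module.End K W)ˣ, D ≤ R → D ≠ R →
      (∀ x ∈ D, S * x * S⁻¹ ∈ D) → ∀ x ∈ D, Commute S x := by
    intro D hD hne hSD
    haveI : Finite D := Finite.of_injective _ (Subgroup.inclusion_injective hD)
    obtain ⟨k, hk⟩ := Subgroup.card_dvd_of_le hD
    refine ih _ (hm ▸ lt_of_le_of_ne (Nat.le_of_dvd Nat.card_pos (Subgroup.card_dvd_of_le hD))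
      fun he => hne (Subgroup.eq_of_le_of_card_ge hD he.ge)) D rfl inferInstance
      (h6.coprime_dvd_left ⟨k, hk⟩) (fun h0 => hRK (by rw [hk, Nat.cast_mul, h0, zero_mul])) ?_
      (fun a ha b hb c hc => hcl a (hD ha) b (hD hb) c (hD hc))
    rw [Subgroup.mem_normalizer_iff]
    refine fun x => ⟨hSD x, fun hx => ?_⟩
    have h1 := hSD _ (hSD _ hx)
    rwa [show S * (S * (S * x * S⁻¹) * S⁻¹) * S⁻¹ = S ^ 3 * x * (S ^ 3)⁻¹ by
      rw [pow_succ, pow_two]; group, hS3, one_mul, inv_one, mul_one] at h1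
  have hfix : ∀ x, Commute S x → S * x * S⁻¹ = x := fun x h => by rw [h.eq, mul_inv_cancel_right]
  have hfix' : ∀ x, S * x * S⁻¹ = x → Commute S x := fun x h => by
    show S * x = x * S
    conv_rhs => rw [← h, inv_mul_cancel_right]
  by_contra hne
  push Not at hne
  obtain ⟨x₀, hx₀, hx₀S⟩ := hne
  set Z := Subgroup.closure {z | ∃ x ∈ R, z = x⁻¹ * (S * x * S⁻¹)} with hZ
  have hZR : Z ≤ R := by
    rw [hZ, Subgroup.closure_le]
    rintro _ ⟨x, hx, rfl⟩
    exact mul_mem (inv_mem hx) (hRi x hx)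
  have hgen : Z = R := by
    by_contra hZne
    refine hx₀S (hfix' _ (fixed_of_moved_fixed h23 hS3 hSR hx₀ (sub Z hZR hZne (fun z hz => ?_) _
      (Subgroup.subset_closure ⟨x₀, hx₀, rfl⟩))))
    suffices Z ≤ Z.comap (MulAut.conj S).toMonoidHom from this hz
    refine (Subgroup.closure_le _).mpr ?_
    rintro _ ⟨x, hx, rfl⟩
    exact Subgroup.subset_closure ⟨S * x * S⁻¹, hRi x hx, by
      show S * (x⁻¹ * (S * x * S⁻¹)) * S⁻¹ = _
      group⟩
  set C := fixIn R S with hC
  have hCR : C ≤ R := inf_le_left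
  have hderR : ⁅R, R⁆ ≤ R := Subgroup.commutator_le.mpr fun a ha b hb =>
    mul_mem (mul_mem (mul_mem ha hb) (inv_mem ha)) (inv_mem hb)
  have hcfix : ∀ a ∈ R, ∀ b ∈ R, Commute S ⁅a, b⁆ := by
    by_cases hd : ⁅R, R⁆ = R
    · have habel : ∀ a ∈ R, ∀ b ∈ R, a * b = b * a := by
        intro a ha b hb
        have hle : ⁅R, R⁆ ≤ Subgroup.centralizer (R : Set (Module.End K W)ˣ) :=
          Subgroup.commutator_le.mpr fun u hu v hv c hc => hcl u hu v hv c hc
        exact (hle (hd.symm ▸ hb) a ha)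
      exact fun a ha b hb => by
        rw [commutatorElement_eq_one_iff_mul_comm.mpr (habel a ha b hb)]; exact Commute.one_right S
    · refine fun a ha b hb => sub _ hderR hd (fun x hx => ?_) _ (Subgroup.commutator_mem_commutator ha hb)
      suffices ⁅R, R⁆ ≤ ⁅R, R⁆.comap (MulAut.conj S).toMonoidHom from this hx
      refine Subgroup.commutator_le.mpr fun u hu v hv => ?_
      show S * ⁅u, v⁆ * S⁻¹ ∈ ⁅R, R⁆
      rw [show S * ⁅u, v⁆ * S⁻¹ = ⁅S * u * S⁻¹, S * v * S⁻¹⁆ by simp only [commutatorElement_def]; group]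
      exact Subgroup.commutator_mem_commutator (hRi u hu) (hRi v hv)
  have hcR : ∀ a ∈ R, ∀ b ∈ R, ⁅a, b⁆ ∈ C := fun a ha b hb =>
    mem_fixIn.mpr ⟨hderR (Subgroup.commutator_mem_commutator ha hb), hcfix a ha b hb⟩
  -- `C` is central
  have hcent : ∀ c ∈ C, ∀ y ∈ R, y * c = c * y := by
    intro c hc y hy
    rw [← hgen] at hy
    have hle : Z ≤ Subgroup.centralizer {c} := by
      rw [hZ, Subgroup.closure_le]
      rintro _ ⟨x, hx, rfl⟩
      rw [SetLike.mem_coe, Subgroup.mem_centralizer_singleton_iff]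
      have hzR : x⁻¹ * (S * x * S⁻¹) ∈ R := mul_mem (inv_mem hx) (hRi x hx)
      have h1 := comm_mul_left hcl hx hzR (hCR hc)
      have h2 : ⁅S * x * S⁻¹, c⁆ = ⁅x, c⁆ := by
        conv_rhs => rw [← hfix _ (hcfix x hx c (hCR hc))]
        conv_lhs => rw [show c = S * c * S⁻¹ from (hfix c (mem_fixIn.mp hc).2).symm]
        simp only [commutatorElement_def]; group
      rw [mul_inv_cancel_left, h2, left_eq_mul] at h1
      exact commutatorElement_eq_one_iff_mul_comm.mp h1
    exact Subgroup.mem_centralizer_singleton_iff.mp (hle hy)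
  have hCbot : C ≠ ⊥ := by
    intro h
    refine hx₀S ?_
    have := eq_bot_of_fpf (K := K) hRK hSR hsum (fun x hx hxS =>
      Subgroup.mem_bot.mp (h ▸ mem_fixIn.mpr ⟨hx, hxS⟩))
    rw [this, Subgroup.mem_bot] at hx₀
    rw [hx₀]; exact Commute.one_right S
  have hnonab : ∃ a ∈ R, ∃ b ∈ R, ⁅a, b⁆ ≠ 1 := by
    by_contra h
    push Not at h
    exact hCbot ((Subgroup.eq_bot_iff_forall _).mpr fun x hx =>
      commute_of_commutative_moved hSR (fun a ha b hb => commutatorElement_eq_one_iff_mul_comm.mp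
        (h a ha b hb)) hgen.ge x (hCR hx) (mem_fixIn.mp hx).2)
  haveI : Finite C := Finite.of_injective _ (Subgroup.inclusion_injective hCR)
  letI : CommGroup C := { (inferInstance : Group C) with
    mul_comm := fun a b => Subtype.ext (hcent b b.2 a (hCR a.2)) }
  have hCK : (Nat.card C : K) ≠ 0 := fun h => hRK (by
    obtain ⟨k, hk⟩ := Subgroup.card_dvd_of_le hCR
    rw [hk, Nat.cast_mul, h, zero_mul])
  letI := Fintype.ofFinite (C →* Kˣ)
  let ρ : C →* Module.End K W := (Units.coeHom _).comp C.subtype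
  obtain ⟨μ, hμe, a₀, ha₀, b₀, hb₀, hμab⟩ : ∃ μ : C →* Kˣ, idem ρ μ ≠ 0 ∧
      ∃ a, ∃ ha : a ∈ R, ∃ b, ∃ hb : b ∈ R, μ ⟨⁅a, b⁆, hcR a ha b hb⟩ ≠ 1 := by
    by_contra h
    push Not at h
    obtain ⟨a, ha, b, hb, hab⟩ := hnonab
    refine hab (Units.ext ?_)
    refine eq_one_of_forall ρ hCK fun χ hχ => ?_
    have := map_mul_idem ρ χ ⟨⁅a, b⁆, hcR a ha b hb⟩
    rw [h χ hχ a ha b hb, Units.val_one, one_smul] at this
    exact this
  set e := idem ρ μ with he
  have hRe : ∀ y ∈ R, y ∈ commUnits e := fun y hy => commute_idem ρ _ (fun c => by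
    show (y : Module.End K W) * ((c : (Module.End K W)ˣ) : Module.End K W) = _
    rw [← Units.val_mul, hcent c c.2 y hy, Units.val_mul]; rfl) μ
  have hSe : S ∈ commUnits e := commute_idem ρ _ (fun c => by
    show (S : Module.End K W) * ((c : (Module.End K W)ˣ) : Module.End K W) = _
    rw [← Units.val_mul, (mem_fixIn.mp c.2).2.eq, Units.val_mul]; rfl) μ
  let U := LinearMap.range e
  let E := Module.End K U
  let r : R →* E := (resHom e).comp (Subgroup.inclusion hRe)
  let Su : Eˣ := ((resHom e).toHomUnits ⟨S, hSe⟩)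
  have hScoe : ∀ w : U, ((Su : E) w : W) = (S : Module.End K W) w := fun w => rfl
  have hsumU : (1 : E) + Su + (Su : E) * Su = 0 := LinearMap.ext fun w => Subtype.ext
    (LinearMap.congr_fun hsum w.1)
  have hrcoe : ∀ (y : R) (w : U), (r y w : W) = ((y : (Module.End K W)ˣ) : Module.End K W) w :=
    fun y w => rfl
  have hrC : ∀ (c : C), r ⟨c, hCR c.2⟩ = (μ c).1 • (1 : E) := fun c => LinearMap.ext fun w =>
    Subtype.ext (by
      obtain ⟨v, hv⟩ := w.2
      rw [hrcoe, LinearMap.smul_apply, Module.End.one_apply, Submodule.coe_smul, ← hv,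
        ← LinearMap.smul_apply, ← map_mul_idem ρ μ c]
      rfl)
  have hrS : ∀ y : R, (Su : E) * r y = r (conjRes R S hSR y) * Su := fun y =>
    LinearMap.ext fun w => Subtype.ext (by
      show (S : Module.End K W) (((y : (Module.End K W)ˣ) : Module.End K W) (w : W)) =
        ((S * (y : (Module.End K W)ˣ) * S⁻¹ : (Module.End K W)ˣ) : Module.End K W)
          ((S : Module.End K W) (w : W))
      rw [← Module.End.mul_apply, ← Units.val_mul, ← Module.End.mul_apply, ← Units.val_mul,
        inv_mul_cancel_right])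
  -- the quotient
  set C' := C.subgroupOf R with hC'
  haveI : C'.Normal := ⟨fun c hc g => by
    rw [hC', Subgroup.mem_subgroupOf] at hc ⊢
    rw [Subgroup.coe_mul, Subgroup.coe_mul, Subgroup.coe_inv, hcent _ hc _ g.2, mul_inv_cancel_right]
    exact hc⟩
  letI : CommGroup (R ⧸ C') := { (inferInstance : Group (R ⧸ C')) with
    mul_comm := fun a b => by
      refine QuotientGroup.induction_on a fun a => QuotientGroup.induction_on b fun b => ?_
      rw [← QuotientGroup.mk_mul, ← QuotientGroup.mk_mul, QuotientGroup.eq, hC',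
        Subgroup.mem_subgroupOf]
      rw [show (a * b)⁻¹ * (b * a) = ⁅b⁻¹, a⁻¹⁆ by simp only [commutatorElement_def]; group]
      exact hcR _ (inv_mem b.2) _ (inv_mem a.2) }
  have hn0 : (Nat.card (R ⧸ C') : K) ≠ 0 := fun h => hRK (by
    rw [Subgroup.card_eq_card_quotient_mul_card_subgroup C', Nat.cast_mul, h, zero_mul])
  -- conjugation on `E`
  let cj : R →* Module.End K E :=
    { toFun := fun y => LinearMap.mulLeft K (r y) ∘ₗ LinearMap.mulRight K (r y⁻¹)
      map_one' := LinearMap.ext fun X => by simp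
      map_mul' := fun a b => LinearMap.ext fun X => by simp [mul_assoc] }
  have hcj : ∀ y X, cj y X = r y * (X * r y⁻¹) := fun y X => rfl
  have hkerC : C' ≤ cj.ker := fun c hc => by
    refine MonoidHom.mem_ker.mpr (LinearMap.ext fun X => ?_)
    rw [hC', Subgroup.mem_subgroupOf] at hc
    rw [hcj, Module.End.one_apply, show r c = (μ ⟨c, hc⟩).1 • (1 : E) from hrC ⟨c, hc⟩,
      show r c⁻¹ = (μ ⟨c, hc⟩⁻¹).1 • (1 : E) from hrC (⟨c, hc⟩⁻¹), smul_mul_assoc, mul_smul_comm,
      one_mul, mul_one, smul_smul, map_inv, Units.mul_inv, one_smul]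
  let π : R ⧸ C' →* Module.End K E := QuotientGroup.lift C' cj hkerC
  have hπ : ∀ (y : R) X, π (y : R ⧸ C') X = r y * (X * r y⁻¹) := fun y X => rfl
  -- the pairing
  let μ' : R → R → Kˣ := fun y v => μ ⟨⁅(y : (Module.End K W)ˣ), v⁆, hcR y y.2 v v.2⟩
  have hμl : ∀ y z v, μ' (y * z) v = μ' y v * μ' z v := fun y z v => by
    simp only [μ', ← map_mul]
    congr 1
    exact Subtype.ext (comm_mul_left hcl y.2 z.2 v.2)
  have hμr : ∀ y z v, μ' y (z * v) = μ' y z * μ' y v := fun y z v => by
    simp only [μ', ← map_mul]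
    congr 1
    exact Subtype.ext (comm_mul_right hcl y.2 z.2 v.2)
  have hμC : ∀ y v : R, v ∈ C' → μ' y v = 1 ∧ μ' v y = 1 := fun y v hv => by
    rw [hC', Subgroup.mem_subgroupOf] at hv
    refine ⟨?_, ?_⟩ <;>
    · simp only [μ']
      rw [← map_one μ]
      congr 1
      exact Subtype.ext (commutatorElement_eq_one_iff_mul_comm.mpr (by
        first | exact hcent _ hv _ y.2 | exact (hcent _ hv _ y.2).symm))
  let χ₀ : R → (R ⧸ C' →* Kˣ) := fun v => QuotientGroup.lift C'
    (MonoidHom.mk' (fun y => μ' y v) (fun y z => hμl y z v))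
    (fun c hc => MonoidHom.mem_ker.mpr ((hμC v c hc).2))
  have hχ₀ : ∀ v (y : R), χ₀ v (y : R ⧸ C') = μ' y v := fun v y => rfl
  let χhom : R ⧸ C' →* (R ⧸ C' →* Kˣ) := QuotientGroup.lift C'
    (MonoidHom.mk' χ₀ (fun a b => MonoidHom.ext fun q => QuotientGroup.induction_on q fun y => by
      rw [MonoidHom.mul_apply, hχ₀, hχ₀, hχ₀, hμr]))
    (fun c hc => MonoidHom.mem_ker.mpr (MonoidHom.ext fun q => QuotientGroup.induction_on q fun y =>
      (hμC y c hc).1))
  have hχ : ∀ v y : R, χhom (v : R ⧸ C') (y : R ⧸ C') = μ' y v := fun v y => rfl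
  have hμS : ∀ y v : R, μ' (conjRes R S hSR y) (conjRes R S hSR v) = μ' y v := fun y v => by
    simp only [μ']
    congr 1
    apply Subtype.ext
    show ⁅S * (y : (Module.End K W)ˣ) * S⁻¹, S * v * S⁻¹⁆ = ⁅(y : (Module.End K W)ˣ), (v : (Module.End K W)ˣ)⁆
    conv_rhs => rw [← hfix _ (hcfix y y.2 v v.2)]
    simp only [commutatorElement_def]; group
  -- nondegeneracy
  have hinj : Function.Injective χhom := by
    rw [injective_iff_map_eq_one]
    intro q
    refine QuotientGroup.induction_on q fun v hv => ?_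
    let Rad : Subgroup R :=
      { carrier := {v | ∀ y, μ' y v = 1}
        one_mem' := fun y => (hμC y 1 C'.one_mem).1
        mul_mem' := fun {a b} ha hb y => by rw [hμr, ha y, hb y, one_mul]
        inv_mem' := fun {a} ha y => by
          have h1 := hμr y a a⁻¹
          rw [mul_inv_cancel, (hμC y 1 C'.one_mem).1, ha y, one_mul] at h1
          exact h1.symm }
    have hvR : v ∈ Rad := fun y => by rw [← hχ, hv]; rfl
    rw [QuotientGroup.eq_one_iff, hC', Subgroup.mem_subgroupOf]
    refine mem_fixIn.mpr ⟨v.2, sub (Rad.map R.subtype) (Subgroup.map_subtype_le _) ?_ ?_ _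
      (Subgroup.mem_map_of_mem _ hvR)⟩
    · intro h
      have hb : b₀ ∈ Rad.map R.subtype := h.ge hb₀
      obtain ⟨b', hb', hbb⟩ := hb
      subst hbb
      exact hμab (hb' ⟨a₀, ha₀⟩)
    · rintro _ ⟨u, hu, rfl⟩
      refine ⟨conjRes R S hSR u, fun y => ?_, rfl⟩
      obtain ⟨y', rfl⟩ := (conjRes R S hSR).surjective y
      rw [hμS]; exact hu y'
  have hbij : Function.Bijective χhom := by
    haveI : Finite (R ⧸ C' →* Kˣ) := Nat.finite_of_card_ne_zero (by
      rw [card_hom hn0]; exact Nat.card_pos.ne')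
    exact (Nat.bijective_iff_injective_and_card _).mpr ⟨hinj, (card_hom hn0).symm⟩
  letI := Fintype.ofFinite (R ⧸ C')
  haveI : Finite (R ⧸ C' →* Kˣ) := Finite.of_surjective _ hbij.2
  letI := Fintype.ofFinite (R ⧸ C' →* Kˣ)
  let pr : R ⧸ C' → Module.End K E := fun q => idem (A := Module.End K E) π (χhom q)
  let E₁ := LinearMap.range (pr 1)
  have hmem1 : ∀ X : E₁, ∀ y : R, r y * (X : E) * r y⁻¹ = X := fun X y => by
    obtain ⟨Y, hY⟩ := X.2
    have h := LinearMap.congr_fun (map_mul_idem (A := Module.End K E) π (χhom 1) (y : R ⧸ C')) Y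
    rw [Module.End.mul_apply, LinearMap.smul_apply, map_one, MonoidHom.one_apply, Units.val_one,
      one_smul] at h
    rw [mul_assoc, ← hπ, ← hY]
    simp only [pr, map_one]
    exact h
  have hinv : ∀ v : R, r v * r v⁻¹ = 1 ∧ r v⁻¹ * r v = 1 := fun v =>
    ⟨by rw [← map_mul, mul_inv_cancel, map_one], by rw [← map_mul, inv_mul_cancel, map_one]⟩
  have hshift : ∀ (y v : R), r y * r v * r y⁻¹ = (μ' y v).1 • r v := fun y v => by
    have h1 : y * v * y⁻¹ = (⟨⁅(y : (Module.End K W)ˣ), v⁆, hCR (hcR y y.2 v v.2)⟩ : R) * v :=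
      Subtype.ext (by simp [commutatorElement_def])
    rw [← map_mul, ← map_mul, h1, map_mul, hrC ⟨_, hcR y y.2 v v.2⟩, smul_mul_assoc, one_mul]
  -- first injection
  let rep : R ⧸ C' → R := Quotient.out
  have hrep : ∀ q, ((rep q : R) : R ⧸ C') = q := fun q => Quotient.out_eq q
  have hpr : ∀ q q' (X : E₁), pr q' (r (rep q) * X) = if q' = q then r (rep q) * X else 0 := by
    intro q q' X
    have heig : ∀ u, π u (r (rep q) * X) = ((χhom q) u).1 • (r (rep q) * (X : E)) := by
      intro u
      refine QuotientGroup.induction_on u fun y => ?_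
      have hc : χhom q (y : R ⧸ C') = μ' y (rep q) := by rw [← hχ, hrep]
      rw [hπ, hc, ← smul_mul_assoc, ← hshift]
      conv_rhs => rw [← hmem1 X y]
      simp only [mul_assoc]
      rw [← mul_assoc (r y⁻¹) (r y), (hinv y).2, one_mul]
    have h1 : idem (A := Module.End K E) π (χhom q) (r (rep q) * X) = r (rep q) * X := idem_apply_eq (V := E) hn0 π _ _ heig
    split_ifs with h
    · subst h; exact h1
    · show idem (A := Module.End K E) π (χhom q') _ = 0
      rw [← h1, ← Module.End.mul_apply, idem_mul_idem (A := Module.End K E) π hn0, if_neg (fun e => h (hinj e)),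
        LinearMap.zero_apply]
  let Φ : ((R ⧸ C') → E₁) →ₗ[K] E :=
    ∑ q : R ⧸ C', (LinearMap.mulLeft K (r (rep q)) ∘ₗ E₁.subtype) ∘ₗ LinearMap.proj q
  have hΦ : Function.Injective Φ := by
    rw [injective_iff_map_eq_zero]
    intro f hf
    funext q
    have h1 := congrArg (pr q) hf
    simp only [Φ, LinearMap.sum_apply, LinearMap.comp_apply, LinearMap.proj_apply,
      LinearMap.mulLeft_apply, Submodule.coe_subtype, map_sum, map_zero, hpr, Finset.sum_ite_eq,
      Finset.mem_univ, if_true] at h1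
    apply Subtype.ext
    have h2 := congrArg (fun Y => r (rep q)⁻¹ * Y) h1
    simpa only [← mul_assoc, (hinv _).2, one_mul, mul_zero, Pi.zero_apply, ZeroMemClass.coe_zero] using h2
  haveI : Module.Free K E₁ := Module.Free.of_divisionRing K E₁
  haveI : Module.Finite K E₁ := inferInstance
  have hne1 := LinearMap.finrank_le_finrank_of_injective hΦ
  rw [Module.finrank_pi_fintype, Finset.sum_const, Finset.card_univ, smul_eq_mul,
    Module.finrank_linearMap] at hne1
  -- fixed points
  let cS : Module.End K E := LinearMap.mulLeft K (Su : E) ∘ₗ LinearMap.mulRight K ((Su⁻¹ : Eˣ) : E)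
  let F := LinearMap.ker (cS - 1)
  have hFmem : ∀ X, X ∈ F ↔ cS X = X := fun X => by
    rw [LinearMap.mem_ker, LinearMap.sub_apply, Module.End.one_apply, sub_eq_zero]
  have hge := finrank_fix_ge h3 Su hsumU F (fun X hX => (hFmem X).mpr (by
    show (Su : E) * (X * ((Su⁻¹ : Eˣ) : E)) = X
    rw [← mul_assoc, hX.eq, mul_assoc, Units.mul_inv, mul_one]))
  let σ : R ⧸ C' ≃* R ⧸ C' := QuotientGroup.congr C' C' (conjRes R S hSR) (by
    ext u
    constructor
    · rintro ⟨c, hc, rfl⟩
      rw [SetLike.mem_coe, hC', Subgroup.mem_subgroupOf] at hc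
      rw [hC', Subgroup.mem_subgroupOf]
      show S * (c : (Module.End K W)ˣ) * S⁻¹ ∈ C
      rw [hfix _ (mem_fixIn.mp hc).2]; exact hc
    · intro hu
      rw [hC', Subgroup.mem_subgroupOf] at hu
      exact ⟨u, by rwa [SetLike.mem_coe, hC', Subgroup.mem_subgroupOf],
        Subtype.ext (hfix _ (mem_fixIn.mp hu).2)⟩)
  have hσ : ∀ y : R, σ (y : R ⧸ C') = (conjRes R S hSR y : R) := fun y => rfl
  have hconj : ∀ u : R ⧸ C', cS * π u = π (σ u) * cS := fun u =>
    QuotientGroup.induction_on u fun y => LinearMap.ext fun X => by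
      rw [Module.End.mul_apply, Module.End.mul_apply, hπ, hσ, hπ]
      show (Su : E) * ((r y * (X * r y⁻¹)) * ((Su⁻¹ : Eˣ) : E)) = _ * ((Su : E) * (X * ((Su⁻¹ : Eˣ) : E)) * _)
      have h1 : r y⁻¹ * ((Su⁻¹ : Eˣ) : E) = ((Su⁻¹ : Eˣ) : E) * r (conjRes R S hSR y)⁻¹ := by
        rw [Units.eq_inv_mul_iff_mul_eq, ← mul_assoc, Units.mul_inv_eq_iff_eq_mul, ← map_inv]
        exact hrS y⁻¹
      calc (Su : E) * ((r y * (X * r y⁻¹)) * ((Su⁻¹ : Eˣ) : E))
          = ((Su : E) * r y) * (X * (r y⁻¹ * ((Su⁻¹ : Eˣ) : E))) := by simp only [mul_assoc]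
        _ = _ := by rw [hrS, h1]; simp only [mul_assoc]
  let cSu : (Module.End K E)ˣ :=
    ⟨cS, LinearMap.mulLeft K ((Su⁻¹ : Eˣ) : E) ∘ₗ LinearMap.mulRight K (Su : E),
      LinearMap.ext fun X => by simp [cS, mul_assoc],
      LinearMap.ext fun X => by simp [cS, mul_assoc]⟩
  have hprS : ∀ q X, X ∈ F → pr (σ q) X = cS (pr q X) := by
    intro q X hX
    have h1 := LinearMap.congr_fun (conj_idem (A := Module.End K E) π cSu σ hconj (χhom q)) X
    have hcomp : (χhom q).comp σ.symm.toMonoidHom = χhom (σ q) := MonoidHom.ext fun u => by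
      refine QuotientGroup.induction_on q fun v => ?_
      obtain ⟨u', rfl⟩ := σ.surjective u
      refine QuotientGroup.induction_on u' fun y => ?_
      rw [MonoidHom.comp_apply, MulEquiv.coe_toMonoidHom, MulEquiv.symm_apply_apply, hσ, hσ, hχ, hχ,
        hμS]
    rw [hcomp] at h1
    simp only [Module.End.mul_apply, cSu] at h1
    rw [(hFmem X).mp hX] at h1
    exact h1.symm
  have hσ3 : ∀ q : R ⧸ C', σ (σ (σ q)) = q := fun q => QuotientGroup.induction_on q fun y => by
    rw [hσ, hσ, hσ]
    congr 1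
    apply Subtype.ext
    simp only [coe_conjRes]
    rw [show S * (S * (S * (y : (Module.End K W)ˣ) * S⁻¹) * S⁻¹) * S⁻¹ = S ^ 3 * y * (S ^ 3)⁻¹ by
      rw [pow_succ, pow_two]; group, hS3, one_mul, inv_one, mul_one]
  have hσfree : ∀ q : R ⧸ C', σ q = q → q = 1 := fun q => QuotientGroup.induction_on q fun y hy => by
    rw [hσ, eq_comm, QuotientGroup.eq, hC', Subgroup.mem_subgroupOf] at hy
    rw [QuotientGroup.eq_one_iff, hC', Subgroup.mem_subgroupOf]
    exact mem_fixIn.mpr ⟨y.2, hfix' _ (fixed_of_moved_fixed h23 hS3 hSR y.2 (mem_fixIn.mp hy).2)⟩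
  let idx := Fintype.equivFin (R ⧸ C')
  let Ω : Finset (R ⧸ C') := Finset.univ.filter
    (fun q => q ≠ 1 ∧ idx q < idx (σ q) ∧ idx q < idx (σ (σ q)))
  have hΩcard : 3 * Ω.card + 1 ≤ Fintype.card (R ⧸ C') := by
    have hd : ∀ q ∈ Ω, q ≠ 1 ∧ σ q ≠ 1 ∧ σ (σ q) ≠ 1 := fun q hq => by
      have h1 := (Finset.mem_filter.mp hq).2.1
      exact ⟨h1, fun h => h1 (σ.map_eq_one_iff.mp h),
        fun h => h1 (σ.map_eq_one_iff.mp (σ.map_eq_one_iff.mp h))⟩
    let f : Option (Ω × Fin 3) → R ⧸ C' := fun o => match o with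
      | none => 1
      | some (q, i) => if i = 0 then q else if i = 1 then σ q else σ (σ q)
    have hf : Function.Injective f := by
      have hkey : ∀ q ∈ Ω, ∀ q' ∈ Ω, σ q ≠ q' ∧ σ (σ q) ≠ q' := by
        intro q hq q' hq'
        obtain ⟨-, h1, h2⟩ := (Finset.mem_filter.mp hq).2
        obtain ⟨-, h1', h2'⟩ := (Finset.mem_filter.mp hq').2
        refine ⟨?_, ?_⟩ <;> rintro rfl <;> rw [hσ3] at *
        · exact lt_asymm h1 h2'
        · exact lt_asymm h2 h1'
      rintro (_ | ⟨⟨q, hq⟩, i⟩) (_ | ⟨⟨q', hq'⟩, j⟩) h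
      · rfl
      · obtain ⟨a, b, c⟩ := hd q' hq'
        fin_cases j <;> simp [f] at h <;> first
          | exact absurd h.symm a | exact absurd h.symm b | exact absurd h.symm c
          | exact absurd h a | exact absurd h b | exact absurd h c
      · obtain ⟨a, b, c⟩ := hd q hq
        fin_cases i <;> simp [f] at h <;> first
          | exact absurd h a | exact absurd h b | exact absurd h c
      · obtain ⟨k1, k2⟩ := hkey q hq q' hq'
        obtain ⟨k1', k2'⟩ := hkey q' hq' q hq
        fin_cases i <;> fin_cases j <;> simp [f] at h ⊢ <;> first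
          | exact h
          | exact absurd h.symm k1' | exact absurd h.symm k2' | exact absurd h k1 | exact absurd h k2
          | exact absurd ((σ.injective h).symm) k1' | exact absurd (σ.injective h) k1
          | exact absurd (σ.injective (σ.injective h)) (fun e => (hd q' hq').1 rfl)
    have := Fintype.card_le_of_injective f hf
    simpa [Fintype.card_option, mul_comm] using this
  let Ψ : F →ₗ[K] (↥(insert (1 : R ⧸ C') Ω) → E₁) :=
    LinearMap.pi fun q => ((LinearMap.mulLeft K (r (rep q.1)⁻¹) ∘ₗ pr q.1).codRestrict E₁ (fun X => by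
      refine ⟨r (rep q.1)⁻¹ * pr q.1 X, idem_apply_eq (V := E) hn0 π (χhom 1) _ fun u => ?_⟩
      rw [map_one, MonoidHom.one_apply, Units.val_one, one_smul]
      refine QuotientGroup.induction_on u fun y => ?_
      have h1 := LinearMap.congr_fun (map_mul_idem (A := Module.End K E) π (χhom q.1) (y : R ⧸ C')) X
      rw [Module.End.mul_apply, LinearMap.smul_apply, hπ] at h1
      have hc : χhom q.1 (y : R ⧸ C') = μ' y (rep q.1) := by rw [← hχ, hrep]
      have hsh := hshift y (rep q.1)⁻¹
      have hinvμ : μ' y (rep q.1)⁻¹ = (μ' y (rep q.1))⁻¹ := by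
        rw [eq_inv_iff_mul_eq_one, ← hμr, inv_mul_cancel]
        exact (hμC y 1 C'.one_mem).1
      rw [hπ]
      calc r y * (r (rep q.1)⁻¹ * pr q.1 X * r y⁻¹)
          = (r y * r (rep q.1)⁻¹ * r y⁻¹) * (r y * (pr q.1 X * r y⁻¹)) := by
            simp only [mul_assoc]; rw [← mul_assoc (r y⁻¹) (r y), (hinv y).2, one_mul]
        _ = r (rep q.1)⁻¹ * pr q.1 X := by
            rw [hsh, h1, hc, hinvμ, smul_mul_assoc, mul_smul_comm, smul_smul, Units.inv_mul, one_smul]))
        ∘ₗ F.subtype
  have hΨ : Function.Injective Ψ := by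
    rw [injective_iff_map_eq_zero]
    intro X hX
    have hz : ∀ q ∈ insert (1 : R ⧸ C') Ω, pr q (X : E) = 0 := by
      intro q hq
      have h1 : r (rep q)⁻¹ * pr q (X : E) = 0 :=
        congrArg Subtype.val (congrFun hX (⟨q, hq⟩ : ↥(insert (1 : R ⧸ C') Ω)))
      have h2 := congrArg (fun Y => r (rep q) * Y) h1
      simpa only [← mul_assoc, (hinv _).1, one_mul, mul_zero] using h2
    have hall : ∀ q, pr q (X : E) = 0 := by
      intro q
      by_cases h1 : q = 1
      · exact hz q (by simp [h1])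
      have hne : σ q ≠ q := fun h => h1 (hσfree q h)
      have hne2 : σ (σ q) ≠ q := fun h => hne (by
        have h' := congrArg σ h; rw [hσ3] at h'; exact h'.symm)
      have hne3 : σ (σ q) ≠ σ q := fun h => hne (σ.injective h)
      have step : ∀ u ∈ Ω, pr u (X : E) = 0 ∧ pr (σ u) (X : E) = 0 ∧ pr (σ (σ u)) (X : E) = 0 := by
        intro u hu
        have h0 := hz u (Finset.mem_insert_of_mem hu)
        refine ⟨h0, ?_, ?_⟩
        · rw [hprS u X X.2, h0, map_zero]
        · rw [hprS (σ u) X X.2, hprS u X X.2, h0, map_zero, map_zero]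
      rcases lt_trichotomy (idx q) (idx (σ q)) with ha | ha | ha
      · rcases lt_trichotomy (idx q) (idx (σ (σ q))) with hb | hb | hb
        · exact (step q (Finset.mem_filter.mpr ⟨Finset.mem_univ _, h1, ha, hb⟩)).1
        · exact absurd (idx.injective hb).symm hne2
        · have := (step (σ (σ q)) (Finset.mem_filter.mpr ⟨Finset.mem_univ _, fun h => h1
              (σ.map_eq_one_iff.mp (σ.map_eq_one_iff.mp h)), by rw [hσ3]; exact hb,
              by rw [hσ3]; exact hb.trans ha⟩)).2.1
          rwa [hσ3] at this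
      · exact absurd (idx.injective ha).symm hne
      · rcases lt_trichotomy (idx (σ q)) (idx (σ (σ q))) with hb | hb | hb
        · have := (step (σ q) (Finset.mem_filter.mpr ⟨Finset.mem_univ _, fun h => h1
              (σ.map_eq_one_iff.mp h), hb, by rw [hσ3]; exact ha⟩)).2.2
          rwa [hσ3] at this
        · exact absurd (idx.injective hb).symm hne3
        · have := (step (σ (σ q)) (Finset.mem_filter.mpr ⟨Finset.mem_univ _, fun h => h1
              (σ.map_eq_one_iff.mp (σ.map_eq_one_iff.mp h)), by rw [hσ3]; exact hb.trans ha,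
              by rw [hσ3]; exact hb⟩)).2.1
          rwa [hσ3] at this
    apply Subtype.ext
    have h1 := LinearMap.congr_fun (sum_idem (A := Module.End K E) π hn0) (X : E)
    rw [LinearMap.sum_apply, Module.End.one_apply] at h1
    rw [← h1]
    exact Finset.sum_eq_zero fun χ _ => by
      obtain ⟨q, rfl⟩ := hbij.2 χ
      exact hall q
  have hle := LinearMap.finrank_le_finrank_of_injective hΨ
  rw [Module.finrank_pi_fintype, Finset.sum_const, Finset.card_univ, Fintype.card_coe,
    smul_eq_mul] at hle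
  have hins := Finset.card_insert_le (1 : R ⧸ C') Ω
  have hd0 : 0 < Module.finrank K U := by
    haveI : Nontrivial U := (Submodule.nontrivial_iff_ne_bot).mpr fun h =>
      hμe (LinearMap.range_eq_bot.mp h)
    exact Module.finrank_pos
  have hn5 : 5 ≤ Fintype.card (R ⧸ C') := by
    have hdvd : Fintype.card (R ⧸ C') ∣ Nat.card R := by
      rw [← Nat.card_eq_fintype_card]; exact Subgroup.card_quotient_dvd_card C'
    have h2 := h6.coprime_dvd_left hdvd
    have hone : Fintype.card (R ⧸ C') ≠ 1 := fun h => hx₀S (by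
      rw [Fintype.card_eq_one_iff] at h
      obtain ⟨q, hq⟩ := h
      have h1 : ((⟨x₀, hx₀⟩ : R) : R ⧸ C') = 1 := (hq _).trans (hq _).symm
      rw [QuotientGroup.eq_one_iff, hC', Subgroup.mem_subgroupOf] at h1
      exact (mem_fixIn.mp h1).2)
    have hpos : 0 < Fintype.card (R ⧸ C') := Fintype.card_pos
    by_contra hlt
    push Not at hlt
    have key : ∀ n < 5, n.Coprime 6 → n = 1 := by decide
    exact hone (key _ hlt h2)
  set d := Module.finrank K U
  set ee := Module.finrank K E₁
  have he0 : 0 < ee := by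
    rcases Nat.eq_zero_or_pos ee with h | h
    · exfalso; rw [h, mul_zero] at hle; nlinarith
    · exact h
  have hmain : Fintype.card (R ⧸ C') * ee * 3 ≤ 2 * (Fintype.card (R ⧸ C') + 2) * ee := by
    nlinarith
  have := Nat.le_of_mul_le_mul_right (by linarith : (Fintype.card (R ⧸ C') * 3) * ee ≤
    (2 * (Fintype.card (R ⧸ C') + 2)) * ee) he0
  omega

/-- The class two case. -/
theorem commute_of_class_two (h3 : (3 : K) ≠ 0) (S : (Module.End K W)ˣ)
    (hsum : (1 : Module.End K W) + S + (S : Module.End K W) * S = 0)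
    (R : Subgroup (Module.End K W)ˣ) [Finite R] (h6 : (Nat.card R).Coprime 6)
    (hRK : (Nat.card R : K) ≠ 0) (hSR : S ∈ Subgroup.normalizer (R : Set (Module.End K W)ˣ))
    (hcl : ∀ a ∈ R, ∀ b ∈ R, ∀ c ∈ R, c * ⁅a, b⁆ = ⁅a, b⁆ * c) : ∀ x ∈ R, Commute S x :=
  class_two_aux h3 S hsum _ R rfl inferInstance h6 hRK hSR hcl

/-- The derived series as subgroups of the ambient group. -/
def derivedIn {M : Type*} [Group M] (L : Subgroup M) : ℕ → Subgroup M
  | 0 => L
  | n + 1 => ⁅derivedIn L n, derivedIn L n⁆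

theorem derivedIn_eq {M : Type*} [Group M] (L : Subgroup M) (n : ℕ) :
    derivedIn L n = (derivedSeries L n).map L.subtype := by
  induction n with
  | zero => simp [derivedIn, ← MonoidHom.range_eq_map]
  | succ n ih => rw [derivedIn, derivedSeries_succ, Subgroup.map_commutator, ih]

/-- Shult's theorem for an element of order three. -/
theorem commute_of_isSolvable (h3 : (3 : K) ≠ 0) (S : (Module.End K W)ˣ)
    (hsum : (1 : Module.End K W) + S + (S : Module.End K W) * S = 0)
    (L : Subgroup (Module.End K W)ˣ) [Finite L] (hsolv : Group.IsSolvable L)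
    (h6 : (Nat.card L).Coprime 6)
    (hSL : S ∈ Subgroup.normalizer (L : Set (Module.End K W)ˣ))
    (hred : ∀ q : ℕ, q.Prime → (q : K) = 0 → ∀ P : Subgroup (Module.End K W)ˣ, P ≤ L →
      IsPGroup q P → L ≤ Subgroup.normalizer (P : Set (Module.End K W)ˣ) →
      S ∈ Subgroup.normalizer (P : Set (Module.End K W)ˣ) → P = ⊥) :
    ∀ x ∈ L, Commute S x := by
  classical
  have hS3 : S ^ 3 = 1 := Units.ext (by
    rw [Units.val_pow_eq_pow_val, Units.val_one]
    linear_combination (norm := noncomm_ring) ((S : Module.End K W) - 1) * hsum)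
  have hle : ∀ n, derivedIn L n ≤ L := fun n => derivedIn_eq L n ▸ Subgroup.map_subtype_le _
  have hnorm : ∀ n, L ⊔ Subgroup.zpowers S ≤
      Subgroup.normalizer (derivedIn L n : Set (Module.End K W)ˣ) := by
    intro n
    induction n with
    | zero => exact sup_le Subgroup.le_normalizer (Subgroup.zpowers_le.mpr hSL)
    | succ n ih => exact CfsgLib.Coprime.le_normalizer_commutator ih ih
  obtain ⟨N, hN⟩ := (Group.isSolvable_def L).mp hsolv
  suffices h : ∀ k n, n + k = N → ∀ x ∈ derivedIn L n, Commute S x from h N 0 (zero_add N)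
  intro k
  induction k with
  | zero =>
    intro n hn x hx
    rw [← (show n = N by omega)] at hN
    rw [derivedIn_eq, hN, Subgroup.map_bot, Subgroup.mem_bot] at hx
    rw [hx]; exact Commute.one_right S
  | succ k ih =>
    intro n hn x hx
    set D := derivedIn L n with hD
    have hD' : ∀ f ∈ derivedIn L (n + 1), Commute S f := ih (n + 1) (by omega)
    set C := D ⊓ Subgroup.centralizer (derivedIn L (n + 1) : Set (Module.End K W)ˣ) with hC
    have hCL : C ≤ L := inf_le_left.trans (hle n)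
    haveI : Finite C := Finite.of_injective _ (Subgroup.inclusion_injective hCL)
    haveI : Finite D := Finite.of_injective _ (Subgroup.inclusion_injective (hle n))
    have hCn : L ⊔ Subgroup.zpowers S ≤ Subgroup.normalizer (C : Set (Module.End K W)ˣ) :=
      CfsgLib.Coprime.le_normalizer_inf_of_le (hnorm n)
        (CfsgLib.Coprime.le_normalizer_centralizer (hnorm (n + 1)))
    have hcl : ∀ a ∈ C, ∀ b ∈ C, ∀ c ∈ C, c * ⁅a, b⁆ = ⁅a, b⁆ * c := fun a ha b hb c hc =>
      (Subgroup.mem_centralizer_iff.mp hc.2 _ (Subgroup.commutator_mem_commutator ha.1 hb.1)).symm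
    have hCK : (Nat.card C : K) ≠ 0 := by
      intro h0
      obtain ⟨q, hq, hqC, hqK⟩ : ∃ q : ℕ, q.Prime ∧ q ∣ Nat.card C ∧ (q : K) = 0 := by
        have hpos : (Nat.card C) ≠ 0 := Nat.card_pos.ne'
        have h1 : ((Nat.card C).primeFactorsList.map (Nat.cast : ℕ → K)).prod = 0 := by
          rw [← Nat.cast_list_prod, Nat.prod_primeFactorsList hpos, h0]
        obtain ⟨q, hq, hqK⟩ := List.mem_map.mp (List.prod_eq_zero_iff.mp h1)
        exact ⟨q, Nat.prime_of_mem_primeFactorsList hq, Nat.dvd_of_mem_primeFactorsList hq, hqK⟩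
      haveI := Fact.mk hq
      haveI : Group.IsNilpotent C := by
        refine Group.of_quotient_center_nilpotent ?_
        refine @CommGroup.isNilpotent _ { (inferInstance : Group (C ⧸ Subgroup.center C)) with
          mul_comm := fun a b => QuotientGroup.induction_on a fun a =>
            QuotientGroup.induction_on b fun b => ?_ }
        rw [← QuotientGroup.mk_mul, ← QuotientGroup.mk_mul, QuotientGroup.eq, Subgroup.mem_center_iff]
        intro c
        apply Subtype.ext
        rw [show (a * b)⁻¹ * (b * a) = ⁅b⁻¹, a⁻¹⁆ by simp only [commutatorElement_def]; group]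
        exact hcl _ (inv_mem b.2) _ (inv_mem a.2) _ c.2
      obtain ⟨Q⟩ : Nonempty (Sylow q C) := inferInstance
      haveI : (Q : Subgroup C).Normal := CfsgLib.Transfer.sylow_normal_of_isNilpotent Q
      haveI : (Q : Subgroup C).Characteristic := Q.characteristic_of_normal inferInstance
      have hQn : L ⊔ Subgroup.zpowers S ≤
          Subgroup.normalizer (((Q : Subgroup C).map C.subtype : Subgroup _) : Set (Module.End K W)ˣ) :=
        CfsgLib.PSolvable.le_normalizer_map_of_characteristic hCn _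
      have := hred q hq hqK _ ((Subgroup.map_subtype_le _).trans hCL) (Q.2.map _)
        (le_sup_left.trans hQn) (Subgroup.zpowers_le.mp (le_sup_right.trans hQn))
      exact Q.ne_bot_of_dvd_card hqC
        ((Subgroup.map_eq_bot_iff_of_injective _ C.subtype_injective).mp this)
    have hSD : S ∈ Subgroup.normalizer (D : Set (Module.End K W)ˣ) :=
      Subgroup.zpowers_le.mp (le_sup_right.trans (hnorm n))
    have hyD : S * x * S⁻¹ ∈ D := (Subgroup.mem_normalizer_iff.mp hSD x).mp hx
    have hzC : x⁻¹ * (S * x * S⁻¹) ∈ C := by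
      refine ⟨D.mul_mem (D.inv_mem hx) hyD, Subgroup.mem_centralizer_iff.mpr fun f hf => ?_⟩
      have hxn := hnorm (n + 1) (Subgroup.mem_sup_left (hle n hx))
      have h1 := hD' _ ((Subgroup.mem_normalizer_iff.mp hxn f).mp hf)
      have h2 : (S * x * S⁻¹) * f * (S * x * S⁻¹)⁻¹ = x * f * x⁻¹ := by
        calc (S * x * S⁻¹) * f * (S * x * S⁻¹)⁻¹
            = S * (x * (S⁻¹ * (f * S)) * x⁻¹) * S⁻¹ := by group
          _ = S * (x * f * x⁻¹) * S⁻¹ := by rw [← (hD' f hf).eq, inv_mul_cancel_left]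
          _ = _ := by rw [h1.eq, mul_inv_cancel_right]
      calc f * (x⁻¹ * (S * x * S⁻¹))
          = x⁻¹ * (x * f * x⁻¹) * (S * x * S⁻¹) := by group
        _ = _ := by rw [← h2]; group
    have hCfix := commute_of_class_two h3 S hsum C
      (h6.coprime_dvd_left (Subgroup.card_dvd_of_le hCL)) hCK
      (Subgroup.zpowers_le.mp (le_sup_right.trans hCn)) hcl
    have hfixed := fixed_of_moved_fixed ((h6.coprime_dvd_left
      (Subgroup.card_dvd_of_le (hle n))).coprime_dvd_right (by norm_num)) hS3 hSD hx (hCfix _ hzC)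
    show S * x = x * S
    conv_rhs => rw [← hfixed, inv_mul_cancel_right]

end CfsgLib.OrderThree
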