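import Cfsg.Agent.Lib.Fpf.OrderThreeShult
import Cfsg.Agent.Lib.Fpf.SymThreeGroup

/-!
A symmetric group of degree three acting without fixed points: the irreducible linear case.
-/

set_option autoImplicit false
set_option linter.style.haveILetI false
set_option maxHeartbeats 1000000

open scoped commutatorElement

namespace CfsgLib.SymThree

open CfsgLib.AbelianIdem CfsgLib.OrderThree

variable {K : Type*} [Field K] [IsAlgClosed K] {W : Type*} [AddCommGroup W] [Module K W]
  [FiniteDimensional K W]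

theorem idempotent_eq_zero_or_one {L : Subgroup (Module.End K W)ˣ} {S T : (Module.End K W)ˣ}
    (hirr : ∀ U : Submodule K W,
      (∀ g ∈ ({S, T} : Set (Module.End K W)ˣ) ∪ L, ∀ w ∈ U, (g : Module.End K W) w ∈ U) → U = ⊥ ∨ U = ⊤)
    (F : Module.End K W) (hF : F * F = F)
    (hc : ∀ g ∈ ({S, T} : Set (Module.End K W)ˣ) ∪ L, Commute (g : Module.End K W) F) :
    F = 0 ∨ F = 1 := by
  rcases hirr (LinearMap.range F) (by
      rintro g hg _ ⟨w, rfl⟩
      exact ⟨(g : Module.End K W) w, (LinearMap.congr_fun (hc g hg).eq w).symm⟩) with h | h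
  · exact Or.inl (LinearMap.range_eq_bot.mp h)
  · refine Or.inr (LinearMap.ext fun w => ?_)
    obtain ⟨v, hv⟩ := LinearMap.range_eq_top.mp h w
    rw [← hv, ← Module.End.mul_apply, hF]; rfl

theorem eq_bot_of_isPGroup {L : Subgroup (Module.End K W)ˣ} [Finite L] [Nontrivial W]
    {S T : (Module.End K W)ˣ}
    (hirr : ∀ U : Submodule K W,
      (∀ g ∈ ({S, T} : Set (Module.End K W)ˣ) ∪ L, ∀ w ∈ U, (g : Module.End K W) w ∈ U) → U = ⊥ ∨ U = ⊤)
    {q : ℕ} [Fact q.Prime] (hq : (q : K) = 0) (P : Subgroup (Module.End K W)ˣ) (hP : IsPGroup q P)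
    (hPL : P ≤ L) (hn : ∀ g ∈ ({S, T} : Set (Module.End K W)ˣ) ∪ L,
      g ∈ Subgroup.normalizer (P : Set (Module.End K W)ˣ)) : P = ⊥ := by
  let fix : Submodule K W :=
    { carrier := {w | ∀ x ∈ P, (x : Module.End K W) w = w}
      zero_mem' := fun x _ => map_zero _
      add_mem' := fun {a b} ha hb x hx => by rw [map_add, ha x hx, hb x hx]
      smul_mem' := fun c a ha x hx => by rw [map_smul, ha x hx] }
  rcases hirr fix (fun g hg w hw x hx => by
      have h := hw _ ((Subgroup.mem_normalizer_iff''.mp (hn g hg) x).mp hx)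
      have h' := congrArg (fun v => (g : Module.End K W) v) h
      simp only [← Module.End.mul_apply, ← Units.val_mul, ← mul_assoc, mul_inv_cancel_left,
        mul_inv_cancel, one_mul] at h'
      rwa [Units.val_mul, Module.End.mul_apply] at h') with h | h
  · exfalso
    haveI : Finite P := Finite.of_injective _ (Subgroup.inclusion_injective hPL)
    haveI : CharP K q := by
      obtain ⟨c, hc⟩ := CharP.exists K
      have hd := (CharP.cast_eq_zero_iff K c q).mp hq
      rcases (Nat.dvd_prime (Fact.out : q.Prime)).mp hd with h1 | h1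
      · subst h1; exact absurd rfl (CharP.char_ne_one K 1)
      · subst h1; exact hc
    obtain ⟨w₀, hw₀⟩ := exists_ne (0 : W)
    letI : SMul P W := ⟨fun x w => ((x : (Module.End K W)ˣ) : Module.End K W) w⟩
    letI : MulAction P W :=
      { one_smul := fun w => rfl
        mul_smul := fun a b w => rfl }
    let X : AddSubgroup W := AddSubgroup.closure (Set.range fun x : P => x • w₀)
    have hX : ∀ x : P, ∀ v ∈ X, x • v ∈ X := by
      intro x v hv
      suffices h2 : X ≤ X.comap (((x : (Module.End K W)ˣ) : Module.End K W).toAddMonoidHom) from h2 hv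
      refine (AddSubgroup.closure_le _).mpr ?_
      rintro _ ⟨y, rfl⟩
      exact AddSubgroup.subset_closure ⟨x * y, rfl⟩
    have htor : ∀ v : W, q • v = 0 := fun v => by rw [← Nat.cast_smul_eq_nsmul K, hq, zero_smul]
    haveI : AddGroup.FG X := (AddGroup.fg_iff_addSubgroup_fg _).mpr
      ((AddSubgroup.fg_iff _).mpr ⟨_, rfl, Set.finite_range _⟩)
    haveI : Finite X := AddCommGroup.finite_of_fg_torsion _ fun v => isOfFinAddOrder_iff_nsmul_eq_zero.mpr
      ⟨q, (Fact.out : q.Prime).pos, Subtype.ext (htor v.1)⟩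
    letI : MulAction P X :=
      { smul := fun x v => ⟨x • v.1, hX x v.1 v.2⟩
        one_smul := fun v => Subtype.ext (one_smul P v.1)
        mul_smul := fun a b v => Subtype.ext (mul_smul a b v.1) }
    have h0 : (0 : X) ∈ MulAction.fixedPoints P X := fun x => Subtype.ext (map_zero _)
    have hdvd : q ∣ Nat.card X := by
      have hw : (⟨w₀, AddSubgroup.subset_closure ⟨1, one_smul P w₀⟩⟩ : X) ≠ 0 := fun e =>
        hw₀ (congrArg Subtype.val e)
      have := addOrderOf_eq_prime (p := q) (Subtype.ext (htor w₀)) hw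
      rw [← this]; exact addOrderOf_dvd_natCard _
    obtain ⟨v, hv, hv0⟩ := hP.exists_fixed_point_of_prime_dvd_card_of_fixed_point X hdvd h0
    have hvf : (v.1 : W) ∈ fix := fun x hx => congrArg Subtype.val (hv ⟨x, hx⟩)
    rw [h, Submodule.mem_bot] at hvf
    exact hv0 (Subtype.ext hvf.symm)
  · refine (Subgroup.eq_bot_iff_forall _).mpr fun x hx => Units.ext (LinearMap.ext fun w => ?_)
    have hw : w ∈ fix := h ▸ Submodule.mem_top
    exact hw x hx

/-- An irreducible group with a symmetric group of degree three acting without fixed points. -/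
theorem commute_of_irreducible (h3 : (3 : K) ≠ 0) {L : Subgroup (Module.End K W)ˣ} [Finite L]
    [Nontrivial W] (hsolv : Group.IsSolvable L) (h6 : (Nat.card L).Coprime 6)
    {S T : (Module.End K W)ˣ} (hSL : S ∈ Subgroup.normalizer (L : Set (Module.End K W)ˣ))
    (hTL : T ∈ Subgroup.normalizer (L : Set (Module.End K W)ˣ))
    (hS3 : S ^ 3 = 1) (hT2 : T * T = 1) (hTS : T * S = S * S * T)
    (hsum : ((1 : Module.End K W) + S + (S : Module.End K W) * S) * (1 + T) = 0)
    (hfpf : ∀ x ∈ L, Commute S x → Commute T x → x = 1)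
    (hirr : ∀ U : Submodule K W,
      (∀ g ∈ ({S, T} : Set (Module.End K W)ˣ) ∪ L, ∀ w ∈ U, (g : Module.End K W) w ∈ U) → U = ⊥ ∨ U = ⊤) :
    ∀ a ∈ L, ∀ b ∈ L, a * b = b * a := by
  classical
  by_contra hnc
  have hST : S * T = T * (S * S) := by
    calc S * T = T * T * (S * T) := by rw [hT2, one_mul]
      _ = T * (T * S * T) := by simp only [mul_assoc]
      _ = _ := by rw [hTS, mul_assoc (S * S) T T, hT2, mul_one]
  have hT : T⁻¹ = T := inv_eq_of_mul_eq_one_right hT2
  -- the last nontrivial derived term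
  have hgen : ∀ n, ∀ g ∈ ({S, T} : Set (Module.End K W)ˣ) ∪ L,
      g ∈ Subgroup.normalizer (derivedIn L n : Set (Module.End K W)ˣ) := by
    intro n
    induction n with
    | zero =>
      rintro g ((rfl | rfl) | hg)
      exacts [hSL, hTL, Subgroup.le_normalizer hg]
    | succ n ih =>
      intro g hg
      exact Subgroup.zpowers_le.mp (CfsgLib.Coprime.le_normalizer_commutator
        (Subgroup.zpowers_le.mpr (ih g hg)) (Subgroup.zpowers_le.mpr (ih g hg)))
  have hle : ∀ n, derivedIn L n ≤ L := fun n => derivedIn_eq L n ▸ Subgroup.map_subtype_le _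
  obtain ⟨k, hk, hk1⟩ : ∃ k, derivedIn L k ≠ ⊥ ∧ derivedIn L (k + 1) = ⊥ := by
    by_contra h
    push Not at h
    have hall : ∀ k, derivedIn L k ≠ ⊥ := by
      intro k
      induction k with
      | zero =>
        intro h0
        refine hnc fun a ha b hb => ?_
        rw [(Subgroup.eq_bot_iff_forall _).mp h0 a ha, (Subgroup.eq_bot_iff_forall _).mp h0 b hb]
      | succ k ih => exact h k ih
    obtain ⟨n, hn⟩ := (Group.isSolvable_def L).mp hsolv
    exact hall n (by rw [derivedIn_eq, hn, Subgroup.map_bot])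
  set N := derivedIn L k with hN
  have hNcomm : ∀ a ∈ N, ∀ b ∈ N, a * b = b * a := fun a ha b hb =>
    commutatorElement_eq_one_iff_mul_comm.mp ((Subgroup.eq_bot_iff_forall _).mp hk1 _
      (Subgroup.commutator_mem_commutator ha hb))
  haveI : Finite N := Finite.of_injective _ (Subgroup.inclusion_injective (hle k))
  letI : CommGroup N := { (inferInstance : Group N) with
    mul_comm := fun a b => Subtype.ext (hNcomm a a.2 b b.2) }
  have hN6 : (Nat.card N).Coprime 6 := h6.coprime_dvd_left (Subgroup.card_dvd_of_le (hle k))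
  have hNK : (Nat.card N : K) ≠ 0 := by
    intro h0
    obtain ⟨q, hq, hqN, hqK⟩ : ∃ q : ℕ, q.Prime ∧ q ∣ Nat.card N ∧ (q : K) = 0 := by
      have h1 : ((Nat.card N).primeFactorsList.map (Nat.cast : ℕ → K)).prod = 0 := by
        rw [← Nat.cast_list_prod, Nat.prod_primeFactorsList Nat.card_pos.ne', h0]
      obtain ⟨q, hq, hqK⟩ := List.mem_map.mp (List.prod_eq_zero_iff.mp h1)
      exact ⟨q, Nat.prime_of_mem_primeFactorsList hq, Nat.dvd_of_mem_primeFactorsList hq, hqK⟩
    haveI := Fact.mk hq
    obtain ⟨Q⟩ : Nonempty (Sylow q N) := inferInstance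
    haveI : (Q : Subgroup N).Normal := ⟨fun a ha g => by rwa [mul_comm g a, mul_inv_cancel_right]⟩
    haveI : (Q : Subgroup N).Characteristic := Q.characteristic_of_normal inferInstance
    have hb := eq_bot_of_isPGroup hirr hqK ((Q : Subgroup N).map N.subtype) (Q.2.map _)
      ((Subgroup.map_subtype_le _).trans (hle k)) (fun g hg => Subgroup.zpowers_le.mp
        (CfsgLib.PSolvable.le_normalizer_map_of_characteristic
          (Subgroup.zpowers_le.mpr (hgen k g hg)) _))
    exact Q.ne_bot_of_dvd_card hqN ((Subgroup.map_eq_bot_iff_of_injective _ N.subtype_injective).mp hb)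
  letI := Fintype.ofFinite (N →* Kˣ)
  let ρ : N →* Module.End K W := (Units.coeHom _).comp N.subtype
  let H : Subgroup (Module.End K W)ˣ := Subgroup.normalizer (N : Set (Module.End K W)ˣ) ⊓
    Subgroup.normalizer (L : Set (Module.End K W)ˣ)
  letI : MulAction H (N →* Kˣ) :=
    { smul := fun g χ => χ.comp (conjRes N g.1 g.2.1).symm.toMonoidHom
      one_smul := fun χ => MonoidHom.ext fun n => by
        show χ _ = χ n
        congr 1
      mul_smul := fun g g' χ => MonoidHom.ext fun n => by
        show χ _ = χ _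
        congr 1 }
  let s : H := ⟨S, hgen k S (Or.inl (Or.inl rfl)), hSL⟩
  let t : H := ⟨T, hgen k T (Or.inl (Or.inr rfl)), hTL⟩
  let l : L →* H := Subgroup.inclusion (le_inf (fun g hg => hgen k g (Or.inr hg)) Subgroup.le_normalizer)
  have hs3 : s * s * s = 1 := Subtype.ext (by show S * S * S = 1; rw [← hS3, pow_three, mul_assoc])
  have ht2 : t * t = 1 := Subtype.ext hT2
  have hts : t * s = s * s * t := Subtype.ext hTS
  have hconjN : ∀ (g : H) (χ : N →* Kˣ), (g.1 : Module.End K W) * idem ρ χ = idem ρ (g • χ) * g.1 :=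
    fun g χ => conj_idem ρ g.1 (conjRes N g.1 g.2.1) (fun n => by
      show (g.1 : Module.End K W) * ((n : (Module.End K W)ˣ) : Module.End K W) =
        ((g.1 * n * g.1⁻¹ : (Module.End K W)ˣ) : Module.End K W) * g.1
      rw [← Units.val_mul, ← Units.val_mul, inv_mul_cancel_right]) χ
  -- orbits
  let orb : (N →* Kˣ) → Finset (N →* Kˣ) := fun χ =>
    Finset.univ.filter fun ψ => ∃ g : L, l g • χ = ψ
  have hmem : ∀ {χ ψ : N →* Kˣ}, ψ ∈ orb χ ↔ ∃ g : L, l g • χ = ψ := fun {χ ψ} => by
    simp only [orb, Finset.mem_filter, Finset.mem_univ, true_and]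
  have hself : ∀ χ, χ ∈ orb χ := fun χ => hmem.mpr ⟨1, by rw [map_one, one_smul]⟩
  have heq : ∀ {χ ψ}, ψ ∈ orb χ → orb ψ = orb χ := by
    intro χ ψ h
    obtain ⟨g, rfl⟩ := hmem.mp h
    ext φ
    rw [hmem, hmem]
    constructor
    · rintro ⟨g', rfl⟩; exact ⟨g' * g, by rw [map_mul, mul_smul]⟩
    · rintro ⟨g', rfl⟩; exact ⟨g' * g⁻¹, by rw [← mul_smul, ← map_mul, inv_mul_cancel_right]⟩
  have himg : ∀ (u : H) χ, (orb χ).image (u • ·) = orb (u • χ) := by
    intro u χ
    ext φ
    rw [Finset.mem_image, hmem]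
    constructor
    · rintro ⟨ψ, hψ, rfl⟩
      obtain ⟨g, rfl⟩ := hmem.mp hψ
      refine ⟨⟨u.1 * g * u.1⁻¹, (Subgroup.mem_normalizer_iff.mp u.2.2 _).mp g.2⟩, ?_⟩
      rw [← mul_smul, ← mul_smul]
      congr 1
      exact Subtype.ext (by show u.1 * (g : (Module.End K W)ˣ) * u.1⁻¹ * u.1 = u.1 * g; group)
    · rintro ⟨g, rfl⟩
      refine ⟨l ⟨u.1⁻¹ * g * u.1, ?_⟩ • χ, hmem.mpr ⟨_, rfl⟩, ?_⟩
      · have h := (Subgroup.mem_normalizer_iff.mp (inv_mem u.2.2) _).mp g.2
        rwa [inv_inv] at h
      rw [← mul_smul, ← mul_smul]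
      congr 1
      exact Subtype.ext (by show u.1 * (u.1⁻¹ * (g : (Module.End K W)ˣ) * u.1) = g * u.1; group)
  -- sums of idempotents
  let Es : Finset (N →* Kˣ) → Module.End K W := fun O => ∑ ψ ∈ O, idem ρ ψ
  have hEs : ∀ O O', Es O * Es O' = Es (O ∩ O') := fun O O' => by
    simp only [Es]
    rw [Finset.sum_mul]
    simp only [Finset.mul_sum, idem_mul_idem ρ hNK, Finset.sum_ite_eq]
    rw [Finset.sum_ite_mem]
  have hconjE : ∀ (u : H) O, (u.1 : Module.End K W) * Es O = Es (O.image (u • ·)) * u.1 := fun u O => by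
    simp only [Es, Finset.mul_sum, Finset.sum_mul,
      Finset.sum_image (fun a _ b _ h => (MulAction.injective u) h), hconjN]
  have hEid : ∀ O ψ, ψ ∈ O → Es O * idem ρ ψ = idem ρ ψ := fun O ψ h => by
    simp only [Es, Finset.sum_mul, idem_mul_idem ρ hNK]
    rw [Finset.sum_eq_single_of_mem ψ h (fun b _ hb => if_neg hb), if_pos rfl]
  have hEidem : ∀ O, Es O * Es O = Es O := fun O => by rw [hEs, Finset.inter_self]
  have hsix : ∀ χ, (Es (orb χ)) +
      (if s • χ ∈ orb χ then (S : Module.End K W) * Es (orb χ) else 0) +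
      (if (s * s) • χ ∈ orb χ then ((S * S : (Module.End K W)ˣ) : Module.End K W) * Es (orb χ) else 0) +
      ((if t • χ ∈ orb χ then (T : Module.End K W) * Es (orb χ) else 0) +
      (if (s * t) • χ ∈ orb χ then ((S * T : (Module.End K W)ˣ) : Module.End K W) * Es (orb χ) else 0) +
      (if (s * s * t) • χ ∈ orb χ then ((S * S * T : (Module.End K W)ˣ) : Module.End K W) * Es (orb χ) else 0))
      = 0 := by
    intro χ
    have key : ∀ u : H, (if u • χ ∈ orb χ then (u.1 : Module.End K W) * Es (orb χ) else 0) =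
        Es (orb χ) * ((u.1 : Module.End K W) * Es (orb χ)) := by
      intro u
      rw [hconjE, himg, ← mul_assoc, hEs]
      split_ifs with h
      · rw [heq h, Finset.inter_self]
      · rw [Finset.disjoint_iff_inter_eq_empty.mp (Finset.disjoint_left.mpr fun φ h1 h2 =>
          h (by rw [← heq h1, heq h2]; exact hself _))]
        simp [Es]
    rw [show ((S * S * T : (Module.End K W)ˣ)) = (s * s * t).1 from rfl,
      show ((S * S : (Module.End K W)ˣ)) = (s * s).1 from rfl,
      show ((S * T : (Module.End K W)ˣ)) = (s * t).1 from rfl,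
      show ((S : Module.End K W)) = (s.1 : Module.End K W) from rfl,
      show ((T : Module.End K W)) = (t.1 : Module.End K W) from rfl,
      key, key, key, key, key]
    conv_lhs => arg 1; arg 1; arg 1; rw [← hEidem (orb χ)]
    have h0 := congrArg (fun X => Es (orb χ) * X * Es (orb χ)) hsum
    simp only [mul_zero, zero_mul] at h0
    rw [← h0]
    simp only [s, t, Subgroup.coe_mul, Units.val_mul]
    noncomm_ring
  -- the fixed characters
  have hfixchar : ∀ μ : N →* Kˣ, s • μ = μ → t • μ = μ → μ = 1 := by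
    intro μ hs ht
    have cS : ∀ n : N, μ (conjRes N S s.2.1 n) = μ n := fun n => by
      conv_lhs => rw [← hs]
      exact congrArg μ ((conjRes N S s.2.1).symm_apply_apply n)
    have cT : ∀ n : N, μ (conjRes N T t.2.1 n) = μ n := fun n => by
      conv_lhs => rw [← ht]
      exact congrArg μ ((conjRes N T t.2.1).symm_apply_apply n)
    refine MonoidHom.ext fun n => ?_
    let a := conjRes N S s.2.1
    let b := conjRes N T t.2.1
    have ha3 : ∀ m, a (a (a m)) = m := fun m => Subtype.ext (by
      show S * (S * (S * (m : (Module.End K W)ˣ) * S⁻¹) * S⁻¹) * S⁻¹ = m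
      rw [show S * (S * (S * (m : (Module.End K W)ˣ) * S⁻¹) * S⁻¹) * S⁻¹ = S ^ 3 * m * (S ^ 3)⁻¹ by
        rw [pow_three]; group, hS3, one_mul, inv_one, mul_one])
    have hb2 : ∀ m, b (b m) = m := fun m => Subtype.ext (by
      show T * (T * (m : (Module.End K W)ˣ) * T⁻¹) * T⁻¹ = m
      rw [hT, ← mul_assoc, ← mul_assoc, hT2, one_mul, mul_assoc, hT2, mul_one])
    have hba : ∀ m, b (a m) = a (a (b m)) := fun m => Subtype.ext (by
      show T * (S * (m : (Module.End K W)ˣ) * S⁻¹) * T⁻¹ = S * (S * (T * m * T⁻¹) * S⁻¹) * S⁻¹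
      calc T * (S * (m : (Module.End K W)ˣ) * S⁻¹) * T⁻¹ = (T * S) * m * (T * S)⁻¹ := by group
        _ = (S * S * T) * m * (S * S * T)⁻¹ := by rw [hTS]
        _ = _ := by group)
    let m0 : N := n * a n * a (a n) * (b n * a (b n) * a (a (b n)))
    have hm0 : m0 = 1 := by
      have h1 : a m0 = m0 := by
        simp only [m0, map_mul, ha3]; ac_rfl
      have h2 : b m0 = m0 := by
        simp only [m0, map_mul, hba, hb2, ha3]; ac_rfl
      have h1' := congrArg Subtype.val h1
      have h2' := congrArg Subtype.val h2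
      refine Subtype.ext (hfpf _ (hle k m0.2) ?_ ?_)
      · exact mul_inv_eq_iff_eq_mul.mp h1'
      · exact mul_inv_eq_iff_eq_mul.mp h2'
    have h6' : μ n ^ 6 = 1 := by
      rw [← map_one μ, ← hm0]
      simp only [m0, a, b, map_mul, cS, cT]
      rw [pow_succ, pow_succ, pow_succ, pow_succ, pow_succ, pow_one]; simp only [mul_assoc]
    rw [MonoidHom.one_apply]
    have hd : orderOf (μ n) ∣ Nat.card N := (orderOf_map_dvd μ n).trans (orderOf_dvd_natCard n)
    exact orderOf_eq_one_iff.mp (Nat.eq_one_of_dvd_coprimes hN6 hd (orderOf_dvd_of_pow_eq_one h6'))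
  have hone : idem ρ (1 : N →* Kˣ) = 0 := by
    let fix : Submodule K W :=
      { carrier := {w | ∀ x ∈ N, (x : Module.End K W) w = w}
        zero_mem' := fun x _ => map_zero _
        add_mem' := fun {a b} ha hb x hx => by rw [map_add, ha x hx, hb x hx]
        smul_mem' := fun c a ha x hx => by rw [map_smul, ha x hx] }
    rcases hirr fix (fun g hg w hw x hx => by
        have h := hw _ ((Subgroup.mem_normalizer_iff''.mp (hgen k g hg) x).mp hx)
        have h' := congrArg (fun v => (g : Module.End K W) v) h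
        simp only [← Module.End.mul_apply, ← Units.val_mul, ← mul_assoc, mul_inv_cancel_left,
          mul_inv_cancel, one_mul] at h'
        rwa [Units.val_mul, Module.End.mul_apply] at h') with h | h
    · refine LinearMap.ext fun w => ?_
      have hw : idem ρ (1 : N →* Kˣ) w ∈ fix := fun x hx => by
        have := LinearMap.congr_fun (map_mul_idem ρ (1 : N →* Kˣ) ⟨x, hx⟩) w
        simpa [ρ] using this
      rw [h, Submodule.mem_bot] at hw
      exact hw
    · refine absurd ((Subgroup.eq_bot_iff_forall _).mpr fun x hx =>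
        Units.ext (LinearMap.ext fun w => ?_)) hk
      have hw : w ∈ fix := h ▸ Submodule.mem_top
      exact hw x hx
  have hblk : ∀ (u v : H) χ, u • χ ∈ orb χ → v • χ ∈ orb χ → (u * v) • χ ∈ orb χ := by
    intro u v χ hu hv
    have h1 : (u * v) • χ ∈ (orb χ).image (u • ·) := Finset.mem_image.mpr ⟨_, hv, (mul_smul u v χ).symm⟩
    rwa [himg, heq hu] at h1
  -- orbits fixed by the element of order three
  have typeII : ∀ χ, idem ρ χ ≠ 0 → s • χ ∈ orb χ →
      ((1 : Module.End K W) + S + (S : Module.End K W) * S) * idem ρ χ = 0 := by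
    intro χ hχ hsχ
    have hss := hblk _ _ _ hsχ hsχ
    have htn : t • χ ∉ orb χ := by
      intro htχ
      obtain ⟨μ, hμO, hμ⟩ : ∃ μ ∈ orb χ, s • μ = μ := by
        let a : Function.End (orb χ : Finset _) := fun ψ => ⟨s • ψ.1, by
          have := Finset.mem_image_of_mem (s • ·) ψ.2
          rwa [himg, heq hsχ] at this⟩
        have ha : a ^ 3 ^ 1 = 1 := funext fun ψ => Subtype.ext (by
          show s • s • s • ψ.1 = ψ.1
          rw [← mul_smul, ← mul_smul, hs3, one_smul])
        haveI : Fact (Nat.Prime 3) := ⟨Nat.prime_three⟩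
        have hm := Equiv.Perm.card_fixedPoints_modEq ha
        by_contra hc
        push Not at hc
        have he : IsEmpty (Function.fixedPoints a) := ⟨fun x => hc x.1.1 x.1.2 (congrArg Subtype.val x.2)⟩
        rw [Fintype.card_eq_zero_iff.mpr he, Nat.modEq_zero_iff_dvd, Fintype.card_coe] at hm
        letI : MulAction L (N →* Kˣ) := MulAction.compHom _ l
        have horb : MulAction.orbit L χ = ↑(orb χ) := Set.ext fun ψ => by
          rw [Finset.mem_coe, hmem]; rfl
        have hd : (orb χ).card ∣ Nat.card L := by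
          rw [← Set.ncard_coe_finset, ← horb, ← Nat.card_coe_set_eq,
            Nat.card_congr (MulAction.orbitEquivQuotientStabilizer L χ)]
          exact Subgroup.card_quotient_dvd_card _
        have := Nat.dvd_gcd (hm.trans hd) (show 3 ∣ 6 by norm_num)
        rw [h6] at this
        norm_num at this
      have hμt : t • μ ∈ orb χ := by
        have := Finset.mem_image_of_mem (t • ·) hμO
        rwa [himg, heq htχ] at this
      have hμe : μ ≠ 1 := by
        rintro rfl
        obtain ⟨g, hg⟩ := hmem.mp hμO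
        have : (l g⁻¹) • (1 : N →* Kˣ) = 1 := MonoidHom.ext fun n => rfl
        rw [← hg, ← mul_smul, ← map_mul, inv_mul_cancel, map_one, one_smul, hg] at this
        exact hχ (this ▸ hone)
      have hsmulmul : ∀ (u : H) (a b : N →* Kˣ), u • (a * b) = (u • a) * (u • b) := fun u a b => rfl
      have hprod : μ * (t • μ) = 1 := by
        refine hfixchar _ ?_ ?_
        · rw [hsmulmul, hμ]
          congr 1
          have : s * t = t * (s * s) := Subtype.ext hST
          rw [← mul_smul, this, mul_smul, mul_smul, hμ, hμ]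
        · rw [hsmulmul, ← mul_smul, ht2, one_smul]
          exact MonoidHom.ext fun n => mul_comm (G := Kˣ) _ _
      replace hprod : μ⁻¹ = t • μ :=
        MonoidHom.ext fun n => inv_eq_of_mul_eq_one_right (DFunLike.congr_fun hprod n)
      obtain ⟨g₀, hg₀⟩ := hmem.mp hμO
      obtain ⟨g₁, hg₁⟩ := hmem.mp hμt
      let g := g₁ * g₀⁻¹
      have hg : l g • μ = μ⁻¹ := by
        rw [hprod, ← hg₁, ← hg₀, ← mul_smul, ← map_mul, inv_mul_cancel_right]
      have hg2 : l (g * g) • μ = μ := by
        rw [map_mul, mul_smul, hg, show l g • μ⁻¹ = (l g • μ)⁻¹ from rfl, hg]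
        exact MonoidHom.ext fun n => inv_inv _
      have hodd : Odd (orderOf g) := by
        refine Nat.Coprime.odd_of_left (?_ : Nat.Coprime 2 (orderOf g))
        exact ((h6.coprime_dvd_left (orderOf_dvd_natCard g)).coprime_dvd_right (by norm_num)).symm
      obtain ⟨j, hj⟩ := hodd
      have hfixg : ∀ i : ℕ, l ((g * g) ^ i) • μ = μ := by
        intro i
        induction i with
        | zero => rw [pow_zero, map_one, one_smul]
        | succ i ih => rw [pow_succ, map_mul, mul_smul, hg2, ih]
      have hgμ : l g • μ = μ := by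
        have hpow : (g * g) ^ (j + 1) = g := by
          rw [← pow_two, ← pow_mul, show 2 * (j + 1) = orderOf g + 1 by omega, pow_succ,
            pow_orderOf_eq_one, one_mul]
        rw [← hpow]; exact hfixg _
      rw [hgμ] at hg
      refine hμe (MonoidHom.ext fun n => ?_)
      have hsq : μ n ^ 2 = 1 := by
        rw [pow_two]
        conv_lhs => arg 1; rw [hg, MonoidHom.inv_apply]
        exact inv_mul_cancel _
      rw [MonoidHom.one_apply]
      exact orderOf_eq_one_iff.mp (Nat.eq_one_of_dvd_coprimes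
        (hN6.coprime_dvd_right (show 2 ∣ 6 by norm_num))
        ((orderOf_map_dvd μ n).trans (orderOf_dvd_natCard n)) (orderOf_dvd_of_pow_eq_one hsq))
    have hstn : (s * t) • χ ∉ orb χ := fun h => htn (by
      have := hblk _ _ _ hss h
      rwa [← mul_assoc, hs3, one_mul] at this)
    have hsstn : (s * s * t) • χ ∉ orb χ := fun h => htn (by
      have := hblk _ _ _ hsχ h
      rwa [← mul_assoc, ← mul_assoc, hs3, one_mul] at this)
    have h := hsix χ
    rw [if_pos hsχ, if_pos hss, if_neg htn, if_neg hstn, if_neg hsstn, add_zero, add_zero,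
      add_zero, Units.val_mul] at h
    have h' := congrArg (fun X => X * idem ρ χ) h
    simp only [zero_mul, add_mul, mul_assoc, hEid _ _ (hself χ)] at h'
    simpa only [add_mul, one_mul, mul_assoc] using h'
  -- the sum over these orbits
  let II : Finset (N →* Kˣ) := Finset.univ.filter fun χ => s • χ ∈ orb χ
  have hII : ∀ χ, χ ∈ II ↔ s • χ ∈ orb χ := fun χ => by simp [II]
  have hIImem : ∀ g ∈ ({S, T} : Set (Module.End K W)ˣ) ∪ L, ∀ hg : g ∈ H,
      II.image ((⟨g, hg⟩ : H) • ·) = II := by
    intro g hgm hg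
    refine Finset.eq_of_subset_of_card_le (fun φ hφ => ?_)
      (le_of_eq (Finset.card_image_of_injective _ (MulAction.injective _)).symm)
    obtain ⟨χ, hχ, rfl⟩ := Finset.mem_image.mp hφ
    rw [hII] at hχ ⊢
    rcases hgm with (rfl | rfl) | hgL
    · show s • (s • χ) ∈ orb (s • χ)
      rw [heq hχ, ← mul_smul]
      exact hblk _ _ _ hχ hχ
    · show s • (t • χ) ∈ orb (t • χ)
      have : s * t = t * (s * s) := Subtype.ext hST
      rw [← mul_smul, this, mul_smul, ← himg]
      exact Finset.mem_image_of_mem _ (hblk _ _ _ hχ hχ)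
    · have hgo : (⟨g, hg⟩ : H) • χ ∈ orb χ := hmem.mpr ⟨⟨g, hgL⟩, rfl⟩
      have := Finset.mem_image_of_mem (s • ·) hgo
      rwa [himg, heq hχ, ← heq hgo] at this
  have hIIcomm : ∀ g ∈ ({S, T} : Set (Module.End K W)ˣ) ∪ L,
      Commute (g : Module.End K W) (Es II) := by
    intro g hgm
    have hg : g ∈ H := by
      rcases hgm with (rfl | rfl) | hgL
      exacts [s.2, t.2, (l ⟨g, hgL⟩).2]
    have := hconjE ⟨g, hg⟩ II
    rwa [hIImem g hgm hg] at this
  rcases idempotent_eq_zero_or_one hirr (Es II) (hEidem II) hIIcomm with hz | ho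
  swap
  · -- the element of order three is quadratic
    have hq : ∀ χ : N →* Kˣ, ((1 : Module.End K W) + S + (S : Module.End K W) * S) * idem ρ χ = 0 := by
      intro χ
      by_cases h0 : idem ρ χ = 0
      · rw [h0, mul_zero]
      refine typeII χ h0 ((hII χ).mp (by_contra fun hne => h0 ?_))
      rw [← one_mul (idem ρ χ), ← ho]
      simp only [Es, Finset.sum_mul, idem_mul_idem ρ hNK]
      exact Finset.sum_eq_zero fun ψ hψ => by
        rw [if_neg]; rintro rfl; exact hne hψ
    have hq' : (1 : Module.End K W) + S + (S : Module.End K W) * S = 0 := by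
      have h := Finset.mul_sum Finset.univ (fun χ : N →* Kˣ => idem ρ χ) ((1 : Module.End K W) + S + (S : Module.End K W) * S)
      rw [sum_idem ρ hNK, mul_one] at h
      rw [h]
      exact Finset.sum_eq_zero fun χ _ => hq χ
    have hcS := commute_of_isSolvable h3 S hq' L hsolv h6 hSL (by
      intro q hq hqK P hPL hP hLP hSP
      haveI := Fact.mk hq
      have hSTL : ∀ g ∈ Subgroup.zpowers T, g ∈ Subgroup.normalizer (L : Set (Module.End K W)ˣ) :=
        fun g hg => Subgroup.zpowers_le.mpr hTL hg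
      let P' := P.map (MulAut.conj T).toMonoidHom
      have hP'L : P' ≤ L := by
        rintro _ ⟨x, hx, rfl⟩
        exact (Subgroup.mem_normalizer_iff.mp hTL x).mp (hPL hx)
      have hLP' : L ≤ Subgroup.normalizer (P' : Set (Module.End K W)ˣ) := by
        intro g hg
        rw [Subgroup.mem_normalizer_iff_map_conj_eq] 
        have hg' : T⁻¹ * g * T ∈ L := by
          have h := (Subgroup.mem_normalizer_iff.mp (inv_mem hTL) g).mp hg
          rwa [inv_inv] at h
        have := Subgroup.mem_normalizer_iff_map_conj_eq.mp (hLP hg')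
        conv_rhs => rw [show P' = P.map (MulAut.conj T).toMonoidHom from rfl, ← this, Subgroup.map_map]
        show (P.map _).map _ = _
        rw [Subgroup.map_map]
        congr 1
        refine MonoidHom.ext fun x => ?_
        show g * (T * x * T⁻¹) * g⁻¹ = T * (T⁻¹ * g * T * x * (T⁻¹ * g * T)⁻¹) * T⁻¹
        group
      have hTP : ∀ x, x ∈ P' ↔ T * x * T⁻¹ ∈ P := by
        intro x
        constructor
        · rintro ⟨y, hy, rfl⟩
          show T * (T * y * T⁻¹) * T⁻¹ ∈ P
          rwa [hT, ← mul_assoc, ← mul_assoc, hT2, one_mul, mul_assoc, hT2, mul_one]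
        · intro hx
          refine ⟨_, hx, ?_⟩
          show T * (T * x * T⁻¹) * T⁻¹ = x
          rw [hT, ← mul_assoc, ← mul_assoc, hT2, one_mul, mul_assoc, hT2, mul_one]
      haveI : (P.subgroupOf L).Normal := Subgroup.normal_subgroupOf_of_le_normalizer hLP
      have hsup : IsPGroup q (P ⊔ P' : Subgroup (Module.End K W)ˣ) :=
        hP.to_sup_of_normal_right' (hP.map _) (hPL.trans hLP')
      have hbot := eq_bot_of_isPGroup hirr hqK (P ⊔ P') hsup (sup_le hPL hP'L) (by
        rintro g ((rfl | rfl) | hgL)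
        · rw [Subgroup.mem_normalizer_iff_map_conj_eq, Subgroup.map_sup,
            Subgroup.mem_normalizer_iff_map_conj_eq.mp hSP]
          congr 1
          have h1 := Subgroup.mem_normalizer_iff_map_conj_eq.mp (mul_mem hSP hSP)
          conv_rhs => rw [show P' = P.map (MulAut.conj T).toMonoidHom from rfl, ← h1, Subgroup.map_map]
          show (P.map _).map _ = _
          rw [Subgroup.map_map]
          congr 1
          refine MonoidHom.ext fun x => ?_
          show g * (T * x * T⁻¹) * g⁻¹ = T * (g * g * x * (g * g)⁻¹) * T⁻¹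
          rw [show g * (T * x * T⁻¹) * g⁻¹ = g * T * x * (g * T)⁻¹ by group, hST]
          group
        · rw [Subgroup.mem_normalizer_iff_map_conj_eq, Subgroup.map_sup, sup_comm]
          have e : P'.map (MulAut.conj g).toMonoidHom = P := by
            ext x
            constructor
            · rintro ⟨y, hy, rfl⟩; exact (hTP y).mp hy
            · intro hx
              refine ⟨g * x * g⁻¹, ⟨x, hx, rfl⟩, ?_⟩
              show g * (g * x * g⁻¹) * g⁻¹ = x
              rw [hT, ← mul_assoc, ← mul_assoc, hT2, one_mul, mul_assoc, hT2, mul_one]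
          exact congrArg (· ⊔ P') e
        · rw [Subgroup.mem_normalizer_iff_map_conj_eq, Subgroup.map_sup,
            Subgroup.mem_normalizer_iff_map_conj_eq.mp (hLP hgL),
            Subgroup.mem_normalizer_iff_map_conj_eq.mp (hLP' hgL)])
      exact le_bot_iff.mp (hbot ▸ le_sup_left))
    have hinv := inv_of_fpf_involution (conjRes L T hTL)
      (fun g => Subtype.ext (by
        show T * (T * (g : (Module.End K W)ˣ) * T⁻¹) * T⁻¹ = g
        rw [hT, ← mul_assoc, ← mul_assoc, hT2, one_mul, mul_assoc, hT2, mul_one]))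
      (fun g hg => Subtype.ext (hfpf _ g.2 (hcS _ g.2)
        (mul_inv_eq_iff_eq_mul.mp (congrArg Subtype.val hg))))
    refine hnc fun a ha b hb => ?_
    have h := map_mul (conjRes L T hTL) ⟨a, ha⟩ ⟨b, hb⟩
    rw [hinv, hinv, hinv, inv_eq_iff_eq_inv, mul_inv_rev, inv_inv, inv_inv] at h
    exact congrArg Subtype.val h
  -- every orbit has one reflection
  have hnotII : ∀ χ, idem ρ χ ≠ 0 → s • χ ∉ orb χ := by
    intro χ h0 hχ
    refine h0 ?_
    rw [← hEid II χ ((hII χ).mpr hχ), hz, zero_mul]
  have hrefl : ∀ χ, idem ρ χ ≠ 0 → ∃ r : H, r • χ ∈ orb χ ∧ (r = t ∨ r = s * t ∨ r = s * s * t) ∧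
      (r.1 : Module.End K W) * Es (orb χ) = -Es (orb χ) := by
    intro χ h0
    have h1 := hnotII χ h0
    have h2 : (s * s) • χ ∉ orb χ := fun h => h1 (by
      have := hblk _ _ _ h h
      rwa [← mul_assoc, hs3, one_mul] at this)
    have h := hsix χ
    rw [if_neg h1, if_neg h2, add_zero, add_zero] at h
    have hsts : s * t * t = s := by rw [mul_assoc, ht2, mul_one]
    have hssts : s * s * t * t = s * s := by rw [mul_assoc, ht2, mul_one]
    by_cases ha : t • χ ∈ orb χ
    · have hb : (s * t) • χ ∉ orb χ := fun hb => h1 (hsts ▸ hblk _ _ _ hb ha)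
      have hc : (s * s * t) • χ ∉ orb χ := fun hc => h2 (hssts ▸ hblk _ _ _ hc ha)
      rw [if_pos ha, if_neg hb, if_neg hc, add_zero, add_zero] at h
      exact ⟨t, ha, Or.inl rfl, eq_neg_of_add_eq_zero_right h⟩
    by_cases hb : (s * t) • χ ∈ orb χ
    · have hc : (s * s * t) • χ ∉ orb χ := fun hc => h1 (by
        have := hblk _ _ _ hc hb
        have e : s * s * t * (s * t) = s := by
          calc s * s * t * (s * t) = s * s * (t * s) * t := by simp only [mul_assoc]
            _ = (s * s * s) * s * (t * t) := by rw [hts]; simp only [mul_assoc]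
            _ = s := by rw [hs3, ht2, one_mul, mul_one]
        rwa [e] at this)
      rw [if_neg ha, if_pos hb, if_neg hc, zero_add, add_zero] at h
      exact ⟨_, hb, Or.inr (Or.inl rfl), eq_neg_of_add_eq_zero_right h⟩
    by_cases hc : (s * s * t) • χ ∈ orb χ
    · rw [if_neg ha, if_neg hb, if_pos hc, zero_add, zero_add] at h
      exact ⟨_, hc, Or.inr (Or.inr rfl), eq_neg_of_add_eq_zero_right h⟩
    · rw [if_neg ha, if_neg hb, if_neg hc, add_zero, add_zero, add_zero] at h
      exact absurd (by rw [← hEid _ _ (hself χ), h, zero_mul]) h0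
  -- the kernel on an orbit
  let G := ↥L
  let v : G → Module.End K W := fun x => ((x : (Module.End K W)ˣ) : Module.End K W)
  have hcommE : ∀ χ (x : G), Commute (v x) (Es (orb χ)) := fun χ x => by
    have := hconjE (l x) (orb χ)
    rwa [himg, heq (hmem.mpr ⟨x, rfl⟩)] at this
  have hker : ∀ χ, idem ρ χ ≠ 0 → ∃ r : H, (r = t ∨ r = s * t ∨ r = s * s * t) ∧
      ∃ Kr : Subgroup G, Kr.Normal ∧ (∀ x, x ∈ Kr ↔ v x * Es (orb χ) = Es (orb χ)) ∧
        ∀ x, x⁻¹ * conjRes L r.1 r.2.2 x ∈ Kr := by
    intro χ h0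
    obtain ⟨r, hr, hrt, hre⟩ := hrefl χ h0
    let Kr : Subgroup G :=
      { carrier := {x | v x * Es (orb χ) = Es (orb χ)}
        one_mem' := one_mul _
        mul_mem' := fun {a b} ha hb => by
          show ((a.1 * b.1 : (Module.End K W)ˣ) : Module.End K W) * _ = _
          rw [Units.val_mul, mul_assoc, show v b * _ = _ from hb]; exact ha
        inv_mem' := fun {a} ha => by
          show ((a.1⁻¹ : (Module.End K W)ˣ) : Module.End K W) * _ = _
          conv_lhs => rw [← (show v a * Es (orb χ) = Es (orb χ) from ha)]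
          exact Units.inv_mul_cancel_left a.1 _ }
    refine ⟨r, hrt, Kr, ⟨fun x hx g => ?_⟩, fun x => Iff.rfl, fun x => ?_⟩
    · show ((g.1 * x.1 * g.1⁻¹ : (Module.End K W)ˣ) : Module.End K W) * _ = _
      have h1 : ((g.1⁻¹ : (Module.End K W)ˣ) : Module.End K W) * Es (orb χ)
          = Es (orb χ) * ((g.1⁻¹ : (Module.End K W)ˣ) : Module.End K W) := (hcommE χ g⁻¹).eq
      have h2 : (x.1 : Module.End K W) * Es (orb χ) = Es (orb χ) := hx
      rw [Units.val_mul, Units.val_mul, mul_assoc, mul_assoc, h1,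
        ← mul_assoc (x.1 : Module.End K W), h2, ← h1, Units.mul_inv_cancel_left]
    · show ((x.1⁻¹ * (r.1 * x.1 * r.1⁻¹) : (Module.End K W)ˣ) : Module.End K W) * _ = _
      set E := Es (orb χ)
      have hrE : (r.1 : Module.End K W) * E = E * r.1 := by
        have := hconjE r (orb χ)
        rwa [himg, heq hr] at this
      have hinvE : ((r.1⁻¹ : (Module.End K W)ˣ) : Module.End K W) * E = -E := by
        calc ((r.1⁻¹ : (Module.End K W)ˣ) : Module.End K W) * E
            = ((r.1⁻¹ : (Module.End K W)ˣ) : Module.End K W) * -((r.1 : Module.End K W) * E) := by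
              rw [hre, neg_neg]
          _ = -E := by rw [mul_neg, Units.inv_mul_cancel_left]
      rw [Units.val_mul, Units.val_mul, Units.val_mul]
      simp only [mul_assoc]
      rw [hinvE, mul_neg, (hcommE χ x).eq, mul_neg, ← mul_assoc (r.1 : Module.End K W) E, hre,
        neg_mul, neg_neg, ← (hcommE χ x).eq, ← mul_assoc]
      show ((x.1⁻¹ : (Module.End K W)ˣ) : Module.End K W) * (x.1 : (Module.End K W)ˣ) * E = E
      rw [← Units.val_mul, inv_mul_cancel, Units.val_one, one_mul]
  have hsep : ∀ x : G, (∀ χ, idem ρ χ ≠ 0 → v x * Es (orb χ) = Es (orb χ)) → x = 1 := fun x hx => by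
    refine Subtype.ext (Units.ext (eq_one_of_forall ρ hNK fun χ h0 => ?_))
    rw [← hEid _ _ (hself χ), ← mul_assoc]
    exact congrArg (· * idem ρ χ) (hx χ h0)
  -- the element of order three has no fixed points
  let σ := conjRes L S hSL
  have hσ3 : ∀ x, σ (σ (σ x)) = x := fun x => Subtype.ext (by
    show S * (S * (S * (x : (Module.End K W)ˣ) * S⁻¹) * S⁻¹) * S⁻¹ = x
    rw [show S * (S * (S * (x : (Module.End K W)ˣ) * S⁻¹) * S⁻¹) * S⁻¹ = S ^ 3 * x * (S ^ 3)⁻¹ by
      rw [pow_three]; group, hS3, one_mul, inv_one, mul_one])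
  have hσfix : ∀ b, σ b = b → b = 1 := by
    intro b hb
    let τ := conjRes L T hTL
    let B : Subgroup G := (σ.toMonoidHom).eqLocus (MonoidHom.id G)
    have hτσ : ∀ x, τ (σ x) = σ (σ (τ x)) := fun x => Subtype.ext (by
      show T * (S * (x : (Module.End K W)ˣ) * S⁻¹) * T⁻¹ = S * (S * (T * x * T⁻¹) * S⁻¹) * S⁻¹
      calc T * (S * (x : (Module.End K W)ˣ) * S⁻¹) * T⁻¹ = (T * S) * x * (T * S)⁻¹ := by group
        _ = (S * S * T) * x * (S * S * T)⁻¹ := by rw [hTS]
        _ = _ := by group)
    have hτ2 : ∀ x, τ (τ x) = x := fun x => Subtype.ext (by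
      show T * (T * (x : (Module.End K W)ˣ) * T⁻¹) * T⁻¹ = x
      rw [hT, ← mul_assoc, ← mul_assoc, hT2, one_mul, mul_assoc, hT2, mul_one])
    have hτB : ∀ x, σ x = x → σ (τ x) = τ x := fun x hx => by
      have h := hτσ x
      rw [hx] at h
      calc σ (τ x) = σ (σ (σ (τ x))) := congrArg σ h
        _ = τ x := hσ3 _
    let τB : B ≃* B :=
      { toFun := fun x => ⟨τ x.1, hτB x.1 x.2⟩
        invFun := fun x => ⟨τ x.1, hτB x.1 x.2⟩
        left_inv := fun x => Subtype.ext (hτ2 _)
        right_inv := fun x => Subtype.ext (hτ2 _)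
        map_mul' := fun x y => Subtype.ext (map_mul τ _ _) }
    have hτb : τ b = b⁻¹ := congrArg Subtype.val (inv_of_fpf_involution τB
      (fun x => Subtype.ext (hτ2 _)) (fun x hx => Subtype.ext (Subtype.ext (hfpf _ x.1.2
        (mul_inv_eq_iff_eq_mul.mp (congrArg Subtype.val x.2))
        (mul_inv_eq_iff_eq_mul.mp (congrArg (fun y : B => ((y : G) : (Module.End K W)ˣ)) hx)))))
      (⟨b, hb⟩ : B))
    refine hsep b fun χ h0 => ?_
    obtain ⟨r, hrt, Kr, -, hKr, hr⟩ := hker χ h0
    have hrb : conjRes L r.1 r.2.2 b = b⁻¹ := by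
      have hb' : σ b⁻¹ = b⁻¹ := by rw [map_inv, hb]
      rcases hrt with rfl | rfl | rfl
      · exact hτb
      · have e : conjRes L (s * t).1 (s * t).2.2 b = σ (τ b) := Subtype.ext (by
          show S * T * (b : (Module.End K W)ˣ) * (S * T)⁻¹ = S * (T * b * T⁻¹) * S⁻¹
          group)
        rw [e, hτb, hb']
      · have e : conjRes L (s * s * t).1 (s * s * t).2.2 b = σ (σ (τ b)) := Subtype.ext (by
          show S * S * T * (b : (Module.End K W)ˣ) * (S * S * T)⁻¹ = S * (S * (T * b * T⁻¹) * S⁻¹) * S⁻¹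
          group)
        rw [e, hτb, hb', hb']
    have h2 := hr b
    rw [hrb, ← mul_inv_rev, inv_mem_iff] at h2
    rw [← hKr]
    obtain ⟨j, hj⟩ : Odd (orderOf b) := by
      refine Nat.Coprime.odd_of_left (?_ : Nat.Coprime 2 (orderOf b))
      exact ((h6.coprime_dvd_left (orderOf_dvd_natCard b)).coprime_dvd_right (by norm_num)).symm
    have hpow : (b * b) ^ (j + 1) = b := by
      rw [← pow_two, ← pow_mul, show 2 * (j + 1) = orderOf b + 1 by omega, pow_succ,
        pow_orderOf_eq_one, one_mul]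
    rw [← hpow]
    exact pow_mem h2 _
  have hnil : Group.IsNilpotent G := isNilpotent_of_fpf_three σ hσ3 hσfix
  -- the grid
  have hZ : ¬ (Subgroup.center G = ⊤) := fun h => hnc fun a ha b hb =>
    congrArg Subtype.val (Subgroup.mem_center_iff.mp (h ▸ Subgroup.mem_top (⟨b, hb⟩ : G)) ⟨a, ha⟩)
  obtain ⟨x, hxZ, hx⟩ : ∃ x : G, x ∉ Subgroup.center G ∧ ∀ y, ⁅x, y⁆ ∈ Subgroup.center G := by
    by_contra hc
    push Not at hc
    have hall : ∀ n, Subgroup.upperCentralSeries G n ≤ Subgroup.center G := by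
      intro n
      induction n with
      | zero => rw [Subgroup.upperCentralSeries_zero]; exact bot_le
      | succ n ih =>
        intro x hx
        by_contra hxc
        obtain ⟨y, hy⟩ := hc x hxc
        exact hy (ih (Subgroup.mem_upperCentralSeries_succ_iff.mp hx y))
    obtain ⟨n, hn⟩ := hnil.nilpotent'
    exact hZ (top_le_iff.mp (hn ▸ hall n))
  refine hxZ (Subgroup.mem_center_iff.mpr fun y => (commutatorElement_eq_one_iff_mul_comm.mp ?_).symm)
  refine hsep _ fun χ h0 => ?_
  obtain ⟨r, hrt, Kr, hn, hKr, hr⟩ := hker χ h0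
  haveI := hn
  have hrS : r.1 * S = S * S * r.1 := by
    rcases hrt with rfl | rfl | rfl
    · exact hTS
    · show S * T * S = S * S * (S * T)
      rw [mul_assoc, hTS]; simp only [mul_assoc]
    · show S * S * T * S = S * S * (S * S * T)
      rw [mul_assoc (S * S) T S, hTS]
  have hq := commutator_cube_mem_ker σ (conjRes L r.1 r.2.2) (QuotientGroup.mk' Kr)
    (mul_map_mul_map_eq_one σ hσ3 hσfix) hσ3
    (fun g => Subtype.ext (by
      show r.1 * (S * (g : (Module.End K W)ˣ) * S⁻¹) * r.1⁻¹
        = S * (S * (r.1 * g * r.1⁻¹) * S⁻¹) * S⁻¹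
      calc r.1 * (S * (g : (Module.End K W)ˣ) * S⁻¹) * r.1⁻¹ = (r.1 * S) * g * (r.1 * S)⁻¹ := by group
        _ = (S * S * r.1) * g * (S * S * r.1)⁻¹ := by rw [hrS]
        _ = _ := by group))
    (fun g => ((QuotientGroup.eq).mpr (hr g)).symm) hx y
  rw [← map_pow, QuotientGroup.mk'_apply, QuotientGroup.eq_one_iff] at hq
  rw [← hKr]
  obtain ⟨j, hj⟩ := exists_pow_eq_self_of_coprime
    ((h6.coprime_dvd_left (orderOf_dvd_natCard ⁅x, y⁆)).coprime_dvd_right (show 3 ∣ 6 by norm_num)).symm
  rw [← hj]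
  exact pow_mem hq j

end CfsgLib.SymThree
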