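import Cfsg.Agent.Lib.Fpf.SymThree

/-!
A symmetric group of degree three acting without fixed points: the derived group of a linear group
is unipotent.
-/

set_option autoImplicit false
set_option linter.style.haveILetI false
set_option maxHeartbeats 1000000

open scoped commutatorElement

namespace CfsgLib.SymThree

open CfsgLib.AbelianIdem CfsgLib.OrderThree

universe u v

/-- The units stabilizing a submodule. -/
def stabSub {K : Type u} [Field K] {W : Type v} [AddCommGroup W] [Module K W] (U : Submodule K W) :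
    Subgroup (Module.End K W)ˣ where
  carrier := {g | (∀ w ∈ U, (g : Module.End K W) w ∈ U) ∧
    ∀ w ∈ U, ((g⁻¹ : (Module.End K W)ˣ) : Module.End K W) w ∈ U}
  one_mem' := ⟨fun _ h => h, fun _ h => by rw [inv_one]; exact h⟩
  mul_mem' := fun {a b} ha hb => ⟨fun w hw => ha.1 _ (hb.1 w hw), fun w hw => by
    rw [mul_inv_rev]; exact hb.2 _ (ha.2 w hw)⟩
  inv_mem' := fun {a} ha => ⟨ha.2, by rw [inv_inv]; exact ha.1⟩

/-- Restriction to a stable submodule. -/
def subAct {K : Type u} [Field K] {W : Type v} [AddCommGroup W] [Module K W] (U : Submodule K W) :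
    stabSub U →* Module.End K U where
  toFun g := ((g : (Module.End K W)ˣ) : Module.End K W).restrict g.2.1
  map_one' := LinearMap.ext fun w => Subtype.ext rfl
  map_mul' _ _ := LinearMap.ext fun w => Subtype.ext rfl

/-- The action on the quotient by a stable submodule. -/
def quotAct {K : Type u} [Field K] {W : Type v} [AddCommGroup W] [Module K W] (U : Submodule K W) :
    stabSub U →* Module.End K (W ⧸ U) where
  toFun g := U.mapQ U ((g : (Module.End K W)ˣ) : Module.End K W) (fun w hw => g.2.1 w hw)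
  map_one' := Submodule.linearMap_qext _ (LinearMap.ext fun w => rfl)
  map_mul' _ _ := Submodule.linearMap_qext _ (LinearMap.ext fun w => rfl)

variable {K : Type u} [Field K] [IsAlgClosed K]

theorem isPGroup_derived_step {W : Type v} [AddCommGroup W] [Module K W]
    {L : Subgroup (Module.End K W)ˣ} [Finite L] (hsolv : Group.IsSolvable L)
    (h6 : (Nat.card L).Coprime 6) {S T : (Module.End K W)ˣ}
    (hSL : S ∈ Subgroup.normalizer (L : Set (Module.End K W)ˣ))
    (hTL : T ∈ Subgroup.normalizer (L : Set (Module.End K W)ˣ))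
    (hS3 : S ^ 3 = 1) (hT2 : T * T = 1) (hTS : T * S = S * S * T)
    (hfpf : ∀ x ∈ L, Commute S x → Commute T x → x = 1)
    {M0 : Subgroup (Module.End K W)ˣ} (hL : L ≤ M0) (hS : S ∈ M0) (hT : T ∈ M0)
    {V : Type v} [AddCommGroup V] [Module K V] (f : M0 →* Module.End K V)
    (hf : ((1 : Module.End K V) + f ⟨S, hS⟩ + f ⟨S, hS⟩ * f ⟨S, hS⟩) * (1 + f ⟨T, hT⟩) = 0) (p : ℕ)
    (ih : ∀ (L' : Subgroup (Module.End K V)ˣ), Finite L' → Group.IsSolvable L' →
      (Nat.card L').Coprime 6 → ∀ S' T' : (Module.End K V)ˣ,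
      S' ∈ Subgroup.normalizer (L' : Set (Module.End K V)ˣ) →
      T' ∈ Subgroup.normalizer (L' : Set (Module.End K V)ˣ) →
      S' ^ 3 = 1 → T' * T' = 1 → T' * S' = S' * S' * T' →
      ((1 : Module.End K V) + S' + (S' : Module.End K V) * S') * (1 + T') = 0 →
      (∀ x ∈ L', Commute S' x → Commute T' x → x = 1) → IsPGroup p ↥⁅L', L'⁆) :
    ∀ x (hx : x ∈ ⁅L, L⁆), ∃ (hxM : x ∈ M0) (a : ℕ), f ⟨x ^ p ^ a, pow_mem hxM _⟩ = 1 := by
  let g : M0 →* (Module.End K V)ˣ := f.toHomUnits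
  let φ : L →* (Module.End K V)ˣ := g.comp (Subgroup.inclusion hL)
  have hs3 : (⟨S, hS⟩ : M0) ^ 3 = 1 := Subtype.ext hS3
  have hst : (⟨T, hT⟩ : M0) * ⟨T, hT⟩ = 1 := Subtype.ext hT2
  have hts : (⟨T, hT⟩ : M0) * ⟨S, hS⟩ = ⟨S, hS⟩ * ⟨S, hS⟩ * ⟨T, hT⟩ := Subtype.ext hTS
  have hnorm : ∀ u (hu : u ∈ M0), u ∈ Subgroup.normalizer (L : Set (Module.End K W)ˣ) →
      g ⟨u, hu⟩ ∈ Subgroup.normalizer (φ.range : Set (Module.End K V)ˣ) := by
    intro u hu huL
    rw [Subgroup.mem_normalizer_iff_map_conj_eq]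
    apply le_antisymm
    · rintro _ ⟨_, ⟨l, rfl⟩, rfl⟩
      refine ⟨⟨u * l * u⁻¹, (Subgroup.mem_normalizer_iff.mp huL _).mp l.2⟩, ?_⟩
      show g _ = g ⟨u, hu⟩ * g _ * (g ⟨u, hu⟩)⁻¹
      rw [← map_inv, ← map_mul, ← map_mul]; rfl
    · rintro _ ⟨l, rfl⟩
      have hl : u⁻¹ * l * u ∈ L := by
        have h := (Subgroup.mem_normalizer_iff.mp (inv_mem huL) _).mp l.2
        rwa [inv_inv] at h
      refine ⟨φ ⟨_, hl⟩, ⟨_, rfl⟩, ?_⟩
      show g ⟨u, hu⟩ * g _ * (g ⟨u, hu⟩)⁻¹ = g _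
      rw [← map_inv, ← map_mul, ← map_mul]
      congr 1
      exact Subtype.ext (by show u * (u⁻¹ * (l : (Module.End K W)ˣ) * u) * u⁻¹ = l; group)
  have h6' : (Nat.card φ.range).Coprime 6 := h6.coprime_dvd_left (Subgroup.card_range_dvd φ)
  have hsolv' : Group.IsSolvable φ.range := by
    haveI := hsolv
    exact Group.isSolvable_of_surjective φ.rangeRestrict_surjective
  have key : IsPGroup p ↥⁅φ.range, φ.range⁆ := by
    refine ih φ.range (Finite.of_surjective _ φ.rangeRestrict_surjective) hsolv' h6' (g ⟨S, hS⟩)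
      (g ⟨T, hT⟩) (hnorm S hS hSL) (hnorm T hT hTL) (by rw [← map_pow, hs3, map_one])
      (by rw [← map_mul, hst, map_one]) (by rw [← map_mul, ← map_mul, ← map_mul, hts]) hf ?_
    rintro _ ⟨l, rfl⟩ hc1 hc2
    let α := conjRes L S hSL
    let β := conjRes L T hTL
    have hcomp : ∀ (u : (Module.End K W)ˣ) (hu : u ∈ M0) (hn : u ∈ Subgroup.normalizer (L : Set (Module.End K W)ˣ))
        (x : L), φ (conjRes L u hn x) = g ⟨u, hu⟩ * φ x * (g ⟨u, hu⟩)⁻¹ := fun u hu hn x => by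
      show g _ = g ⟨u, hu⟩ * g _ * (g ⟨u, hu⟩)⁻¹
      rw [← map_inv, ← map_mul, ← map_mul]; rfl
    have hTi : T⁻¹ = T := inv_eq_of_mul_eq_one_right hT2
    refine map_eq_one_of_fixed φ α β h6 (fun x => Subtype.ext ?_) (fun x => Subtype.ext ?_)
      (fun x => Subtype.ext ?_) (fun x hx1 hx2 => Subtype.ext (hfpf _ x.2 ?_ ?_)) (fun x hx => ?_)
      (fun x hx => ?_) (g := l) ?_ ?_
    · show S * (S * (S * (x : (Module.End K W)ˣ) * S⁻¹) * S⁻¹) * S⁻¹ = x
      rw [show S * (S * (S * (x : (Module.End K W)ˣ) * S⁻¹) * S⁻¹) * S⁻¹ = S ^ 3 * x * (S ^ 3)⁻¹ by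
        rw [pow_three]; group, hS3, one_mul, inv_one, mul_one]
    · show T * (T * (x : (Module.End K W)ˣ) * T⁻¹) * T⁻¹ = x
      rw [hTi, ← mul_assoc, ← mul_assoc, hT2, one_mul, mul_assoc, hT2, mul_one]
    · show T * (S * (x : (Module.End K W)ˣ) * S⁻¹) * T⁻¹ = S * (S * (T * x * T⁻¹) * S⁻¹) * S⁻¹
      calc T * (S * (x : (Module.End K W)ˣ) * S⁻¹) * T⁻¹ = (T * S) * x * (T * S)⁻¹ := by group
        _ = (S * S * T) * x * (S * S * T)⁻¹ := by rw [hTS]
        _ = _ := by group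
    · exact mul_inv_eq_iff_eq_mul.mp (congrArg Subtype.val hx1)
    · exact mul_inv_eq_iff_eq_mul.mp (congrArg Subtype.val hx2)
    · rw [hcomp S hS hSL, hx, mul_one, mul_inv_cancel]
    · rw [hcomp T hT hTL, hx, mul_one, mul_inv_cancel]
    · rw [hcomp S hS hSL, hc1.eq, mul_inv_cancel_right]
    · rw [hcomp T hT hTL, hc2.eq, mul_inv_cancel_right]
  intro x hx
  have hder : ⁅L, L⁆ ≤ L := Subgroup.commutator_le.mpr fun a ha b hb =>
    mul_mem (mul_mem (mul_mem ha hb) (inv_mem ha)) (inv_mem hb)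
  refine ⟨hL (hder hx), ?_⟩
  have himg : φ ⟨x, hder hx⟩ ∈ ⁅φ.range, φ.range⁆ := by
    have h1 : (⟨x, hder hx⟩ : L) ∈ commutator L := by
      have h2 : x ∈ (commutator L).map L.subtype := by
        rw [commutator_def, Subgroup.map_commutator, ← MonoidHom.range_eq_map, Subgroup.range_subtype]
        exact hx
      obtain ⟨y, hy, he⟩ := h2
      rwa [show (⟨x, hder hx⟩ : L) = y from Subtype.ext he.symm]
    have h3 := Subgroup.mem_map_of_mem φ h1
    rwa [commutator_def, Subgroup.map_commutator, ← MonoidHom.range_eq_map] at h3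
  obtain ⟨a, ha⟩ := key ⟨_, himg⟩
  refine ⟨a, ?_⟩
  have h := congrArg (fun z : ↥⁅φ.range, φ.range⁆ => ((z : (Module.End K V)ˣ) : Module.End K V)) ha
  simp only [SubgroupClass.coe_pow, Units.val_pow_eq_pow_val, OneMemClass.coe_one, Units.val_one] at h
  rw [← h, show (⟨x ^ p ^ a, pow_mem (hL (hder hx)) _⟩ : M0) = ⟨x, hL (hder hx)⟩ ^ p ^ a from rfl,
    map_pow]
  rfl

theorem isPGroup_derived {p : ℕ} (hp : (p : K) = 0) (h3 : (3 : K) ≠ 0) (n : ℕ) :
    ∀ (W : Type v) [AddCommGroup W] [Module K W] [FiniteDimensional K W], Module.finrank K W = n →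
      ∀ (L : Subgroup (Module.End K W)ˣ), Finite L → Group.IsSolvable L →
      (Nat.card L).Coprime 6 → ∀ S T : (Module.End K W)ˣ,
      S ∈ Subgroup.normalizer (L : Set (Module.End K W)ˣ) →
      T ∈ Subgroup.normalizer (L : Set (Module.End K W)ˣ) →
      S ^ 3 = 1 → T * T = 1 → T * S = S * S * T →
      ((1 : Module.End K W) + S + (S : Module.End K W) * S) * (1 + T) = 0 →
      (∀ x ∈ L, Commute S x → Commute T x → x = 1) → IsPGroup p ↥⁅L, L⁆ := by
  induction n using Nat.strong_induction_on with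
  | h n ih =>
  intro W _ _ _ hn L hfin hsolv h6 S T hSL hTL hS3 hT2 hTS hsum hfpf
  haveI := hfin
  rcases subsingleton_or_nontrivial W with hs | hnt
  · exact fun x => ⟨0, Subtype.ext (Units.ext (LinearMap.ext fun w => Subsingleton.elim _ _))⟩
  by_cases hirr : ∀ U : Submodule K W,
      (∀ g ∈ ({S, T} : Set (Module.End K W)ˣ) ∪ L, ∀ w ∈ U, (g : Module.End K W) w ∈ U) → U = ⊥ ∨ U = ⊤
  · have hc := commute_of_irreducible h3 hsolv h6 hSL hTL hS3 hT2 hTS hsum hfpf hirr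
    have hbot : ⁅L, L⁆ = ⊥ := (Subgroup.eq_bot_iff_forall _).mpr fun x hx => by
      have hle : ⁅L, L⁆ ≤ ⊥ := Subgroup.commutator_le.mpr fun a ha b hb =>
        Subgroup.mem_bot.mpr (commutatorElement_eq_one_iff_mul_comm.mpr (hc a ha b hb))
      exact Subgroup.mem_bot.mp (hle hx)
    rw [hbot]; exact IsPGroup.of_bot
  push Not at hirr
  obtain ⟨U, hU, hUb, hUt⟩ := hirr
  have hLU : L ≤ stabSub U := fun g hg =>
    ⟨hU g (Or.inr hg), hU g⁻¹ (Or.inr (inv_mem hg))⟩
  have hS' : S ∈ stabSub U := by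
    refine ⟨hU S (Or.inl (Or.inl rfl)), fun w hw => ?_⟩
    rw [show S⁻¹ = S * S from inv_eq_of_mul_eq_one_right (by rw [← hS3, pow_three])]
    exact hU S (Or.inl (Or.inl rfl)) _ (hU S (Or.inl (Or.inl rfl)) w hw)
  have hT' : T ∈ stabSub U := by
    refine ⟨hU T (Or.inl (Or.inr rfl)), fun w hw => ?_⟩
    rw [show T⁻¹ = T from inv_eq_of_mul_eq_one_right hT2]
    exact hU T (Or.inl (Or.inr rfl)) w hw
  have hlt1 : Module.finrank K U < n := hn ▸ Submodule.finrank_lt hUt
  have hlt2 : Module.finrank K (W ⧸ U) < n := by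
    have h1 := Submodule.finrank_quotient_add_finrank U
    have h2 : 0 < Module.finrank K U := by
      rw [Nat.pos_iff_ne_zero, Ne, Submodule.finrank_eq_zero]; exact hUb
    omega
  have r1 := isPGroup_derived_step hsolv h6 hSL hTL hS3 hT2 hTS hfpf hLU hS' hT' (subAct U)
    (LinearMap.ext fun w => Subtype.ext (LinearMap.congr_fun hsum w.1)) p
    (fun L' => ih _ hlt1 U rfl L')
  have r2 := isPGroup_derived_step hsolv h6 hSL hTL hS3 hT2 hTS hfpf hLU hS' hT' (quotAct U)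
    (Submodule.linearMap_qext _ (LinearMap.ext fun w =>
      congrArg (Submodule.Quotient.mk (p := U)) (LinearMap.congr_fun hsum w))) p
    (fun L' => ih _ hlt2 (W ⧸ U) rfl L')
  rintro ⟨x, hx⟩
  obtain ⟨hxM, a, ha⟩ := r1 x hx
  obtain ⟨_, b, hb⟩ := r2 x hx
  refine ⟨a + b + 1, Subtype.ext ?_⟩
  show x ^ p ^ (a + b + 1) = 1
  set y := x ^ p ^ (a + b) with hy
  have hyM : y ∈ stabSub U := pow_mem hxM _
  have hy1 : subAct U ⟨y, hyM⟩ = 1 := by
    rw [show (⟨y, hyM⟩ : stabSub U) = ⟨x ^ p ^ a, pow_mem hxM _⟩ ^ p ^ b from Subtype.ext (by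
      show x ^ p ^ (a + b) = (x ^ p ^ a) ^ p ^ b
      rw [← pow_mul, ← pow_add]), map_pow, ha, one_pow]
  have hy2 : quotAct U ⟨y, hyM⟩ = 1 := by
    rw [show (⟨y, hyM⟩ : stabSub U) = ⟨x ^ p ^ b, pow_mem hxM _⟩ ^ p ^ a from Subtype.ext (by
      show x ^ p ^ (a + b) = (x ^ p ^ b) ^ p ^ a
      rw [← pow_mul, ← pow_add, add_comm]), map_pow, hb, one_pow]
  set d : Module.End K W := (y : Module.End K W) - 1 with hd
  have hd2 : d * d = 0 := LinearMap.ext fun w => by
    have h1 : d w ∈ U := by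
      have h := LinearMap.congr_fun hy2 (Submodule.Quotient.mk w)
      exact (Submodule.Quotient.eq U).mp h
    have h2 := congrArg Subtype.val (LinearMap.congr_fun hy1 ⟨d w, h1⟩)
    show (y : Module.End K W) (d w) - d w = 0
    exact sub_eq_zero.mpr h2
  have hpow : ∀ m : ℕ, (1 + d) ^ m = 1 + (m : K) • d := by
    intro m
    induction m with
    | zero => simp
    | succ m ihm =>
      rw [pow_succ, ihm, add_mul, mul_add, smul_mul_assoc, mul_add, hd2, add_zero, one_mul, one_mul,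
        mul_one, Nat.cast_succ, add_smul, one_smul]
      abel
  apply Units.ext
  rw [pow_succ, pow_mul, ← hy, Units.val_pow_eq_pow_val, show (y : Module.End K W) = 1 + d by rw [hd]; abel,
    hpow, hp, zero_smul, add_zero]
  rfl

end CfsgLib.SymThree
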