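import Cfsg.Agent.Lib.Fpf.SymThreeLinear

/-!
A symmetric group of degree three acting without fixed points on a solvable group of order prime to
six: the derived group is nilpotent.
-/

set_option autoImplicit false
set_option linter.style.haveILetI false
set_option maxHeartbeats 1000000

open scoped commutatorElement

namespace CfsgLib.SymThree

open CfsgLib.OrderThree

theorem inv_mem_of_invariant {G : Type*} [Group G] (V : Subgroup G) (γ : G ≃* G) (k : ℕ)
    (hk : ∀ g, γ^[k+1] g = g) (h : ∀ v ∈ V, γ v ∈ V) : ∀ v ∈ V, γ.symm v ∈ V := by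
  intro v hv
  have h1 : ∀ m, γ^[m] v ∈ V := fun m => by
    induction m with
    | zero => exact hv
    | succ m ih => rw [Function.iterate_succ_apply']; exact h _ ih
  have h2 : γ.symm v = γ^[k] v := by
    apply γ.injective
    rw [MulEquiv.apply_symm_apply, ← Function.iterate_succ_apply' γ, hk]
  rw [h2]; exact h1 k

universe u

theorem derived_isNilpotent (n : ℕ) :
    ∀ (G : Type u) [Group G] [Finite G] [Group.IsSolvable G], Nat.card G = n →
      (Nat.card G).Coprime 6 → ∀ (α β : G ≃* G), (∀ g, α (α (α g)) = g) → (∀ g, β (β g) = g) →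
      (∀ g, β (α g) = α (α (β g))) → (∀ g, α g = g → β g = g → g = 1) →
      Group.IsNilpotent ↥(commutator G) := by
  induction n using Nat.strong_induction_on with
  | h n ih =>
  intro G _ _ _ hn h6 α β h3 h2 hba hfix
  classical
  by_cases hder : commutator G = ⊥
  · rw [hder]; infer_instance
  -- a minimal invariant subgroup inside the last derived term
  obtain ⟨k, hk, hk1⟩ : ∃ k, derivedSeries G (k + 1) ≠ ⊥ ∧ derivedSeries G (k + 2) = ⊥ := by
    by_contra h
    push Not at h
    have hall : ∀ k, derivedSeries G (k + 1) ≠ ⊥ := by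
      intro k
      induction k with
      | zero => simpa using hder
      | succ k ihk => exact h k ihk
    obtain ⟨m, hm⟩ := (Group.isSolvable_def G).mp inferInstance
    exact hall m (le_bot_iff.mp (hm ▸ derivedSeries_antitone G (Nat.le_succ m)))
  let D := derivedSeries G (k + 1)
  have hDcomm : ∀ a ∈ D, ∀ b ∈ D, a * b = b * a := fun a ha b hb =>
    commutatorElement_eq_one_iff_mul_comm.mp ((Subgroup.eq_bot_iff_forall _).mp hk1 _
      (Subgroup.commutator_mem_commutator ha hb))
  have hDinv : ∀ γ : G ≃* G, ∀ v ∈ D, γ v ∈ D := fun γ v hv =>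
    map_derivedSeries_le_derivedSeries (f := γ.toMonoidHom) (k + 1) (Subgroup.mem_map_of_mem _ hv)
  let P : Subgroup G → Prop := fun V =>
    V ≠ ⊥ ∧ V ≤ D ∧ V.Normal ∧ (∀ v ∈ V, α v ∈ V) ∧ (∀ v ∈ V, β v ∈ V)
  obtain ⟨V, ⟨hVb, hVD, hVn, hVα, hVβ⟩, hmin⟩ : ∃ V, P V ∧ ∀ W, P W → W ≤ V → W = V := by
    obtain ⟨V, hV, hV'⟩ := exists_minimal_of_wellFoundedLT P
      ⟨D, hk, le_rfl, inferInstance, hDinv α, hDinv β⟩
    exact ⟨V, hV, fun W hW hle => le_antisymm hle (hV' hW hle)⟩
  haveI := hVn
  obtain ⟨p, hp, hpV⟩ : ∃ p, p.Prime ∧ p ∣ Nat.card V := Nat.exists_prime_and_dvd (fun h =>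
    hVb (Subgroup.eq_bot_of_card_eq _ h))
  haveI := Fact.mk hp
  have hVcomm : ∀ a ∈ V, ∀ b ∈ V, a * b = b * a := fun a ha b hb => hDcomm a (hVD ha) b (hVD hb)
  have hVp : ∀ v ∈ V, v ^ p = 1 := by
    let Vp : Subgroup G :=
      { carrier := {v | v ∈ V ∧ v ^ p = 1}
        one_mem' := ⟨V.one_mem, one_pow p⟩
        mul_mem' := fun {a b} ha hb => ⟨V.mul_mem ha.1 hb.1, by
          rw [Commute.mul_pow (hVcomm a ha.1 b hb.1), ha.2, hb.2, one_mul]⟩
        inv_mem' := fun {a} ha => ⟨V.inv_mem ha.1, by rw [inv_pow, ha.2, inv_one]⟩ }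
    have heq : Vp = V := by
      refine hmin Vp ⟨?_, fun v hv => hVD hv.1, ⟨fun v hv g => ⟨hVn.conj_mem v hv.1 g, by
        rw [conj_pow, hv.2, mul_one, mul_inv_cancel]⟩⟩,
        fun v hv => ⟨hVα v hv.1, by rw [← map_pow, hv.2, map_one]⟩,
        fun v hv => ⟨hVβ v hv.1, by rw [← map_pow, hv.2, map_one]⟩⟩ (fun v hv => hv.1)
      obtain ⟨v, hv⟩ := exists_prime_orderOf_dvd_card' p hpV
      refine fun h => hp.one_lt.ne' ?_
      rw [← hv, orderOf_eq_one_iff]
      have hmem : (v : G) ∈ Vp := ⟨v.2, by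
        rw [← SubgroupClass.coe_pow, ← hv, pow_orderOf_eq_one]; rfl⟩
      rw [h, Subgroup.mem_bot] at hmem
      exact Subtype.ext hmem
    exact fun v hv => (heq ▸ hv : v ∈ Vp).2
  -- the quotient
  have hlt : Nat.card (G ⧸ V) < n := by
    have h := Subgroup.card_eq_card_quotient_mul_card_subgroup V
    rw [← hn, h]
    exact lt_mul_of_one_lt_right Nat.card_pos (Subgroup.one_lt_card_iff_ne_bot _ |>.mpr hVb)
  let qα : (G ⧸ V) ≃* (G ⧸ V) := QuotientGroup.congr V V α (le_antisymm
    (by rintro _ ⟨v, hv, rfl⟩; exact hVα v hv)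
    (fun v hv => ⟨α.symm v, inv_mem_of_invariant V α 2 h3 hVα v hv, α.apply_symm_apply v⟩))
  let qβ : (G ⧸ V) ≃* (G ⧸ V) := QuotientGroup.congr V V β (le_antisymm
    (by rintro _ ⟨v, hv, rfl⟩; exact hVβ v hv)
    (fun v hv => ⟨β.symm v, inv_mem_of_invariant V β 1 h2 hVβ v hv, β.apply_symm_apply v⟩))
  have hq : Group.IsNilpotent ↥(commutator (G ⧸ V)) := by
    refine ih _ hlt (G ⧸ V) rfl (h6.coprime_dvd_left (Subgroup.card_quotient_dvd_card V)) qα qβ
      (fun g => QuotientGroup.induction_on g fun g => congrArg QuotientGroup.mk (h3 g))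
      (fun g => QuotientGroup.induction_on g fun g => congrArg QuotientGroup.mk (h2 g))
      (fun g => QuotientGroup.induction_on g fun g => congrArg QuotientGroup.mk (hba g))
      (fun g => QuotientGroup.induction_on g fun g h1' h2' => ?_)
    exact map_eq_one_of_fixed (QuotientGroup.mk' V) α β h6 h3 h2 hba hfix
      (fun x hx => (QuotientGroup.eq_one_iff _).mpr (hVα x ((QuotientGroup.eq_one_iff _).mp hx)))
      (fun x hx => (QuotientGroup.eq_one_iff _).mpr (hVβ x ((QuotientGroup.eq_one_iff _).mp hx)))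
      h1' h2'
  -- the representation
  letI : CommGroup V := { (inferInstance : Group V) with
    mul_comm := fun a b => Subtype.ext (hVcomm a a.2 b b.2) }
  haveI : Module (ZMod p) (Additive V) := AddCommGroup.zmodModule (fun v =>
    (Subtype.ext (hVp v.toMul.1 v.toMul.2) : v.toMul ^ p = 1))
  let conj : G → (V →* V) := fun g =>
    { toFun := fun v => ⟨g * v * g⁻¹, hVn.conj_mem v v.2 g⟩
      map_one' := Subtype.ext (by simp)
      map_mul' := fun a b => Subtype.ext (by simp) }
  let lin : (V →* V) → Module.End (ZMod p) (Additive V) := fun f =>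
    { toFun := fun v => Additive.ofMul (f v.toMul)
      map_add' := fun x y => congrArg Additive.ofMul (map_mul f x.toMul y.toMul)
      map_smul' := fun c x => ZMod.map_smul (MonoidHom.toAdditive f) c x }
  let ρ₀ : G →* Module.End (ZMod p) (Additive V) :=
    { toFun := fun g => lin (conj g)
      map_one' := LinearMap.ext fun v => Additive.toMul.injective (Subtype.ext (by
        show 1 * (v.toMul : G) * 1⁻¹ = v.toMul; simp))
      map_mul' := fun g h => LinearMap.ext fun v => Additive.toMul.injective (Subtype.ext (by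
        show g * h * (v.toMul : G) * (g * h)⁻¹ = g * (h * v.toMul * h⁻¹) * g⁻¹; group)) }
  let αV : V →* V := (α.toMonoidHom.comp V.subtype).codRestrict V (fun v => hVα v v.2)
  let βV : V →* V := (β.toMonoidHom.comp V.subtype).codRestrict V (fun v => hVβ v v.2)
  let A0 := lin αV
  let B0 := lin βV
  have hA3 : A0 ^ 3 = 1 := LinearMap.ext fun v => Additive.toMul.injective (Subtype.ext (h3 v.toMul.1))
  have hB2 : B0 * B0 = 1 := LinearMap.ext fun v => Additive.toMul.injective (Subtype.ext (h2 v.toMul.1))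
  have hBA : B0 * A0 = A0 * A0 * B0 :=
    LinearMap.ext fun v => Additive.toMul.injective (Subtype.ext (hba v.toMul.1))
  have hAρ : ∀ g, A0 * ρ₀ g = ρ₀ (α g) * A0 := fun g =>
    LinearMap.ext fun v => Additive.toMul.injective (Subtype.ext (by
      show α (g * (v.toMul : G) * g⁻¹) = α g * α v.toMul * (α g)⁻¹; simp))
  have hBρ : ∀ g, B0 * ρ₀ g = ρ₀ (β g) * B0 := fun g =>
    LinearMap.ext fun v => Additive.toMul.injective (Subtype.ext (by
      show β (g * (v.toMul : G) * g⁻¹) = β g * β v.toMul * (β g)⁻¹; simp))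
  have hsum0 : (1 + A0 + A0 * A0) * (1 + B0) = 0 := LinearMap.ext fun v =>
    Additive.toMul.injective (by
      set w := (((1 + A0 + A0 * A0) * (1 + B0)) v).toMul with hw
      have ha : A0 * ((1 + A0 + A0 * A0) * (1 + B0)) = (1 + A0 + A0 * A0) * (1 + B0) := by
        rw [← mul_assoc]
        congr 1
        rw [mul_add, mul_add, mul_one, show A0 * (A0 * A0) = 1 by rw [← pow_three, hA3]]
        abel
      have hb : B0 * ((1 + A0 + A0 * A0) * (1 + B0)) = (1 + A0 + A0 * A0) * (1 + B0) := by
        have hb2 : B0 * (A0 * A0) = A0 * B0 := by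
          rw [← mul_assoc, hBA, mul_assoc, hBA, ← mul_assoc,
            show A0 * A0 * (A0 * A0) = A0 by
              rw [mul_assoc, ← pow_three, hA3, mul_one]]
        rw [← mul_assoc, mul_add B0, mul_add B0, mul_one, hBA, hb2,
          show B0 + A0 * A0 * B0 + A0 * B0 = (1 + A0 + A0 * A0) * B0 by
            rw [add_mul, add_mul, one_mul]; abel, mul_assoc, mul_add B0, hB2, mul_one, add_comm B0]
      have h1 := congrArg Subtype.val (congrArg Additive.toMul (LinearMap.congr_fun ha v))
      have h1' := congrArg Subtype.val (congrArg Additive.toMul (LinearMap.congr_fun hb v))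
      exact Subtype.ext (hfix (w : G) h1 h1'))
  -- extend the scalars
  let K := AlgebraicClosure (ZMod p)
  let b := Module.Free.chooseBasis (ZMod p) (Additive V)
  haveI : Finite (Additive V) := inferInstanceAs (Finite V)
  letI := Fintype.ofFinite (Module.Free.ChooseBasisIndex (ZMod p) (Additive V))
  let ι := Module.Free.ChooseBasisIndex (ZMod p) (Additive V)
  let Φ : Module.End (ZMod p) (Additive V) →+* Module.End K (ι → K) :=
    ((Matrix.toLinAlgEquiv' (R := K) (n := ι)).toRingEquiv.toRingHom.comp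
      (algebraMap (ZMod p) K).mapMatrix).comp (LinearMap.toMatrixAlgEquiv b).toRingEquiv.toRingHom
  have hΦ : Function.Injective Φ :=
    ((Matrix.toLinAlgEquiv' (R := K) (n := ι)).injective.comp
      (Matrix.map_injective (algebraMap (ZMod p) K).injective)).comp (LinearMap.toMatrixAlgEquiv b).injective
  let ρ : G →* (Module.End K (ι → K))ˣ := ((Φ : _ →* _).comp ρ₀).toHomUnits
  let S : (Module.End K (ι → K))ˣ := Units.ofPowEqOne (Φ A0) 3
    (by rw [← map_pow, hA3, map_one]) (by norm_num)
  let T : (Module.End K (ι → K))ˣ := Units.ofPowEqOne (Φ B0) 2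
    (by rw [← map_pow, pow_two, hB2, map_one]) (by norm_num)
  have hS3 : S ^ 3 = 1 := Units.pow_ofPowEqOne _ _
  have hT2 : T * T = 1 := by rw [← pow_two]; exact Units.pow_ofPowEqOne _ _
  have hTS : T * S = S * S * T := Units.ext (by
    show Φ B0 * Φ A0 = Φ A0 * Φ A0 * Φ B0
    rw [← map_mul, hBA, map_mul, map_mul])
  have hSρ : ∀ g, S * ρ g * S⁻¹ = ρ (α g) := fun g => by
    rw [mul_inv_eq_iff_eq_mul]; apply Units.ext
    show Φ A0 * Φ (ρ₀ g) = Φ (ρ₀ (α g)) * Φ A0
    rw [← map_mul, hAρ, map_mul]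
  have hTρ : ∀ g, T * ρ g * T⁻¹ = ρ (β g) := fun g => by
    rw [mul_inv_eq_iff_eq_mul]; apply Units.ext
    show Φ B0 * Φ (ρ₀ g) = Φ (ρ₀ (β g)) * Φ B0
    rw [← map_mul, hBρ, map_mul]
  have hnS : S ∈ Subgroup.normalizer (ρ.range : Set (Module.End K (ι → K))ˣ) := by
    rw [Subgroup.mem_normalizer_iff_map_conj_eq]
    apply le_antisymm
    · rintro _ ⟨_, ⟨g, rfl⟩, rfl⟩; exact ⟨α g, (hSρ g).symm⟩
    · rintro _ ⟨g, rfl⟩
      exact ⟨ρ (α.symm g), ⟨_, rfl⟩, (hSρ _).trans (congrArg ρ (α.apply_symm_apply g))⟩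
  have hnT : T ∈ Subgroup.normalizer (ρ.range : Set (Module.End K (ι → K))ˣ) := by
    rw [Subgroup.mem_normalizer_iff_map_conj_eq]
    apply le_antisymm
    · rintro _ ⟨_, ⟨g, rfl⟩, rfl⟩; exact ⟨β g, (hTρ g).symm⟩
    · rintro _ ⟨g, rfl⟩
      exact ⟨ρ (β.symm g), ⟨_, rfl⟩, (hTρ _).trans (congrArg ρ (β.apply_symm_apply g))⟩
  haveI : CharP K p := charP_of_injective_algebraMap (algebraMap (ZMod p) K).injective p
  have h3K : (3 : K) ≠ 0 := by
    intro h
    have hd : p ∣ 3 := (CharP.cast_eq_zero_iff K p 3).mp (by exact_mod_cast h)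
    have hp3 : p ∣ Nat.card G := hpV.trans (Subgroup.card_subgroup_dvd_card V)
    exact hp.ne_one (Nat.eq_one_of_dvd_coprimes h6 hp3 (hd.trans (by norm_num)))
  haveI : Finite ρ.range := Finite.of_surjective _ ρ.rangeRestrict_surjective
  have hP := isPGroup_derived (CharP.cast_eq_zero K p) h3K _ (ι → K) rfl ρ.range inferInstance
    (Group.isSolvable_of_surjective ρ.rangeRestrict_surjective)
    (h6.coprime_dvd_left (Subgroup.card_range_dvd ρ)) S T hnS hnT hS3 hT2 hTS
    (by
      show (1 + Φ A0 + Φ A0 * Φ A0) * (1 + Φ B0) = 0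
      rw [← map_zero Φ, ← hsum0, map_mul, map_add, map_add, map_add, map_mul, map_one])
    (by
      rintro _ ⟨g, rfl⟩ hc1 hc2
      refine map_eq_one_of_fixed ρ α β h6 h3 h2 hba hfix (fun x hx => ?_) (fun x hx => ?_) ?_ ?_
      · rw [← hSρ, hx, mul_one, mul_inv_cancel]
      · rw [← hTρ, hx, mul_one, mul_inv_cancel]
      · rw [← hSρ, hc1.eq, mul_inv_cancel_right]
      · rw [← hTρ, hc2.eq, mul_inv_cancel_right])
  -- `V` is central in the derived group
  let Q : Subgroup (Module.End K (ι → K))ˣ := (commutator G).map ρ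
  have hQ : IsPGroup p Q := by
    have e : Q = ⁅ρ.range, ρ.range⁆ := by
      simp only [Q, commutator_def, Subgroup.map_commutator, ← MonoidHom.range_eq_map]
    rw [e]; exact hP
  have hcentral : ∀ c ∈ commutator G, ∀ v ∈ V, c * v = v * c := by
    let Z : Subgroup G := V ⊓ Subgroup.centralizer (commutator G : Set G)
    have hZ : Z = V := by
      refine hmin Z ⟨?_, inf_le_left.trans hVD, inferInstance, fun v hv => ⟨hVα v hv.1, ?_⟩,
        fun v hv => ⟨hVβ v hv.1, ?_⟩⟩ inf_le_left
      rotate_left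
      · intro c hc
        have hc' : α.symm c ∈ commutator G :=
          (Subgroup.characteristic_iff_map_le.mp inferInstance α.symm) (Subgroup.mem_map_of_mem _ hc)
        have := congrArg α (hv.2 _ hc')
        simpa using this
      · intro c hc
        have hc' : β.symm c ∈ commutator G :=
          (Subgroup.characteristic_iff_map_le.mp inferInstance β.symm) (Subgroup.mem_map_of_mem _ hc)
        have := congrArg β (hv.2 _ hc')
        simpa using this
      -- fixed points of a p-group
      let R : Subgroup (Module.End (ZMod p) (Additive V))ˣ := (commutator G).map ρ₀.toHomUnits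
      have hR : IsPGroup p R := by
        rintro ⟨_, c, hc, rfl⟩
        obtain ⟨e, he⟩ := hQ ⟨ρ c, Subgroup.mem_map_of_mem ρ hc⟩
        refine ⟨e, Subtype.ext (Units.ext (hΦ ?_))⟩
        have he' := congrArg (fun z : Q => ((z : (Module.End K (ι → K))ˣ) : Module.End K (ι → K))) he
        simp only [SubgroupClass.coe_pow, Units.val_pow_eq_pow_val, OneMemClass.coe_one, Units.val_one]
          at he' ⊢
        rw [map_one, map_pow]
        exact he'
      letI : SMul R (Additive V) := ⟨fun x w => ((x : (Module.End (ZMod p) (Additive V))ˣ) :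
        Module.End (ZMod p) (Additive V)) w⟩
      letI : MulAction R (Additive V) :=
        { one_smul := fun w => rfl
          mul_smul := fun x y w => rfl }
      have h0 : (0 : Additive V) ∈ MulAction.fixedPoints R (Additive V) := fun x => map_zero _
      obtain ⟨v, hv, hv0⟩ := hR.exists_fixed_point_of_prime_dvd_card_of_fixed_point (Additive V) hpV h0
      intro hbot
      have hvZ : (v.toMul : G) ∈ Z := ⟨v.toMul.2, fun c hc => by
        have h := congrArg Subtype.val (congrArg Additive.toMul (hv ⟨_, Subgroup.mem_map_of_mem ρ₀.toHomUnits hc⟩))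
        exact mul_inv_eq_iff_eq_mul.mp h⟩
      rw [hbot, Subgroup.mem_bot] at hvZ
      exact hv0 (Additive.toMul.injective (Subtype.ext hvZ)).symm
    exact fun c hc v hv => ((hZ ▸ hv : v ∈ Z).2 c hc)
  -- conclusion
  let f : ↥(commutator G) →* ↥(commutator (G ⧸ V)) :=
    ((QuotientGroup.mk' V).comp (commutator G).subtype).codRestrict _ (fun c => by
      have h := Subgroup.mem_map_of_mem (QuotientGroup.mk' V) c.2
      have e : (commutator G).map (QuotientGroup.mk' V) ≤ commutator (G ⧸ V) := by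
        rw [commutator_def, Subgroup.map_commutator]; exact Subgroup.commutator_mono le_top le_top
      exact e h)
  haveI := hq
  refine Subgroup.isNilpotent_of_ker_le_center f (fun c hc => Subgroup.mem_center_iff.mpr fun d =>
    Subtype.ext (hcentral d d.2 c ((QuotientGroup.eq_one_iff _).mp (congrArg Subtype.val hc))))

end CfsgLib.SymThree
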